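import Groth.Agent.CdField.Henselian
import Groth.Agent.CdLib.DimBound
import Groth.Agent.DimFormula.Trdeg
import Groth.Agent.DimFormula.Scheme
import Groth.Agent.Hensel.Colim
import Groth.Agent.VarDim.Fibre
import Groth.Agent.FibDim.Minimal

/-! Cohomological dimension of the function fields of strict localizations of schemes of finite type
over a field. -/

set_option autoImplicit false
set_option backward.isDefEq.respectTransparency.types false

universe u

open CategoryTheory CategoryTheory.Limits AlgebraicGeometry Opposite TensorProduct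

noncomputable section

namespace Groth.Agent.CdField

/-- `κ(x)` consists of fractions of elements of the local ring at a specialization. -/
theorem exists_specMap_div {X : Scheme.{u}} {x y : X} (hxy : x ⤳ y) (c : X.residueField x) :
    ∃ a b : X.presheaf.stalk y, Cyc.specMap y x hxy b ≠ 0 ∧
      c * Cyc.specMap y x hxy b = Cyc.specMap y x hxy a := by
  obtain ⟨U, hU, hy, -⟩ := exists_isAffineOpen_mem_and_subset (x := y) (U := ⊤) trivial
  have hx : x ∈ U := hxy.mem_open U.isOpen hy
  letI : Algebra Γ(X, U) (X.presheaf.stalk x) := TopCat.Presheaf.algebra_section_stalk X.presheaf ⟨x, hx⟩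
  haveI : IsLocalization.AtPrime (X.presheaf.stalk x) (hU.primeIdealOf ⟨x, hx⟩).asIdeal := hU.isLocalization_stalk ⟨x, hx⟩
  obtain ⟨s, rfl⟩ := X.residue_surjective x c
  obtain ⟨⟨a, b⟩, hab⟩ := IsLocalization.surj (hU.primeIdealOf ⟨x, hx⟩).asIdeal.primeCompl s
  have hg : ∀ m : Γ(X, U), Cyc.specMap y x hxy (X.presheaf.germ U y hy m) =
      X.residue x (X.presheaf.germ U x hx m) := fun m => by
    show X.residue x (X.presheaf.stalkSpecializes hxy (X.presheaf.germ U y hy m)) = _
    rw [TopCat.Presheaf.germ_stalkSpecializes_apply]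
  refine ⟨X.presheaf.germ U y hy a, X.presheaf.germ U y hy b, ?_, ?_⟩
  · rw [hg]
    exact fun h => (IsLocalRing.notMem_maximalIdeal.2
      (IsLocalization.map_units (X.presheaf.stalk x) b)) ((IsLocalRing.residue_eq_zero_iff _).1 h)
  · rw [hg, hg]
    exact (map_mul _ _ _).symm.trans (congrArg (X.residue x) hab)

section ring

variable {A R : Type u} [CommRing A] [IsLocalRing A] [CommRing R] [IsLocalRing R] [Algebra A R]
  [IsLocalHom (algebraMap A R)] (h : Hensel.IsHenzLike A R) (p : Ideal A) [p.IsPrime]

include h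

theorem comap_of_mem_minimalPrimes (P : Ideal R) (hP : P ∈ (p.map (algebraMap A R)).minimalPrimes) :
    P.comap (algebraMap A R) = p := by
  haveI := h.faithfullyFlat
  haveI := hP.1.1
  have hle : p ≤ P.comap (algebraMap A R) := Ideal.map_le_iff_le_comap.1 hP.1.2
  obtain ⟨Q, hQP, hQ, hQo⟩ := Ideal.exists_ideal_le_liesOver_of_le (p := p)
    (q := P.comap (algebraMap A R)) P hle
  have hQp : Q.comap (algebraMap A R) = p := hQo.over.symm
  have : P ≤ Q := hP.2 ⟨hQ, Ideal.map_le_iff_le_comap.2 hQp.ge⟩ hQP
  rw [← le_antisymm hQP this]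
  exact hQp

/-- The dimension of `R / pR`. -/
theorem le_ringKrullDim_quotient :
    ringKrullDim (A ⧸ p) ≤ ringKrullDim (R ⧸ p.map (algebraMap A R)) := by
  haveI := h.faithfullyFlat
  rw [ringKrullDim_quotient, ringKrullDim_quotient]
  refine iSup_le fun l => ?_
  let l' : LTSeries (PrimeSpectrum A) := l.map Subtype.val fun _ _ hlt => hlt
  obtain ⟨P, hP⟩ := PrimeSpectrum.comap_surjective_of_faithfullyFlat (B := R) l'.last
  have : P.asIdeal.LiesOver l'.last.asIdeal := ⟨congr(($hP).asIdeal).symm⟩
  obtain ⟨L, hL, -, hmap⟩ := Ideal.exists_ltSeries_of_hasGoingDown l' P.asIdeal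
  have hmem : ∀ i, L i ∈ PrimeSpectrum.zeroLocus (p.map (algebraMap A R) : Set R) := fun i => by
    rw [PrimeSpectrum.mem_zeroLocus, SetLike.coe_subset_coe, Ideal.map_le_iff_le_comap]
    have h2 : PrimeSpectrum.comap (algebraMap A R) (L i) ∈ l'.toList := by
      rw [← hmap]
      exact List.mem_map_of_mem (RelSeries.mem_toList.2 ⟨i, rfl⟩)
    obtain ⟨j, hj⟩ := RelSeries.mem_toList.1 h2
    intro z hz
    have : z ∈ (PrimeSpectrum.comap (algebraMap A R) (L i)).asIdeal := hj ▸ (l j).2 hz
    exact this
  refine le_iSup_of_le (⟨L.length, fun i => ⟨L i, hmem i⟩, L.step⟩ : LTSeries _) ?_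
  exact le_of_eq (by rw [← show l'.length = l.length from rfl, hL])

omit [p.IsPrime] in
/-- The images of elements of `R` in a field are algebraic over the residue field at `p`. -/
theorem isAlgebraic_of_henzLike (κ L : Type u) [Field κ] [Field L] [Algebra A κ] [Algebra A L] [Algebra κ L]
    [IsScalarTower A κ L] (g : R →ₐ[A] L) (z : R) : IsAlgebraic κ (g z) := by
  obtain ⟨K, _, _, _, _, ⟨e⟩⟩ := h
  obtain ⟨z, rfl⟩ := e.surjective z
  obtain ⟨N, b, rfl⟩ := Hensel.Henz.exists_ofB z
  let g' : N.B →ₐ[A] L := (g.comp e.toAlgHom).comp (Hensel.Henz.ofB N)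
  haveI : Module.Finite κ (κ ⊗[A] N.B) := Algebra.FormallyUnramified.finite_of_free κ (κ ⊗[A] N.B)
  let G : κ ⊗[A] N.B →ₐ[κ] L := Algebra.TensorProduct.lift (Algebra.ofId κ L) g' fun _ _ => .all _ _
  have : IsIntegral κ (G (1 ⊗ₜ b)) := ((Algebra.IsIntegral.isIntegral (R := κ) ((1 : κ) ⊗ₜ[A] b))).map G
  rw [Algebra.TensorProduct.lift_tmul, map_one, one_mul] at this
  exact this.isAlgebraic

end ring

variable (k : Type u) [Field k] {X : Scheme.{u}} (f : X ⟶ Spec (CommRingCat.of k))
  [LocallyOfFiniteType f]

theorem trdeg_residueField (x : X) :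
    letI := (VarDim.resHom f x).toAlgebra
    Algebra.trdeg k (X.residueField x) = VarDim.deg f x :=
  (VarDim.deg_eq_tdeg f x).symm

/-- The dimension formula over a field. -/
theorem deg_eq_cd_add {x y : X} (hxy : x ⤳ y) :
    haveI := LocallyOfFiniteType.isLocallyNoetherian f
    DimFormula.cd x y + VarDim.deg f y = VarDim.deg f x := by
  haveI := LocallyOfFiniteType.isLocallyNoetherian f
  let S := Spec (CommRingCat.of k)
  have hrd : ∀ z, FibDim.rd f z = VarDim.deg f z := fun z => by
    have h := (FibDim.rd_eq_rdeg f z).trans ((VarDim.tdeg_eq_rdeg f z).symm.trans (VarDim.deg_eq_tdeg f z).symm)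
    exact_mod_cast h
  have h := (DimFormula.cd_formula f hxy).2 (DimFormula.isUniversallyCatenary_of_surjective
    (DimFormula.isUniversallyCatenary_field k)
    ((Scheme.ΓSpecIso (CommRingCat.of k)).inv ≫ S.presheaf.germ ⊤ (f y) trivial).hom ?_)
  · rw [hrd, hrd, Subsingleton.elim (α := ↥S) (f x) (f y), DimFormula.cd_self, zero_add] at h
    exact h
  · intro c
    letI : Algebra Γ(S, ⊤) (S.presheaf.stalk (f y)) := TopCat.Presheaf.algebra_section_stalk S.presheaf (⟨f y, trivial⟩ : (⊤ : S.Opens))
    haveI : IsLocalization.AtPrime (S.presheaf.stalk (f y)) ((isAffineOpen_top S).primeIdealOf ⟨f y, trivial⟩).asIdeal := (isAffineOpen_top S).isLocalization_stalk ⟨f y, trivial⟩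
    obtain ⟨⟨a, b⟩, hab⟩ := IsLocalization.surj ((isAffineOpen_top S).primeIdealOf ⟨f y, trivial⟩).asIdeal.primeCompl c
    obtain ⟨a, rfl⟩ := (Scheme.ΓSpecIso (CommRingCat.of k)).symm.commRingCatIsoToRingEquiv.surjective a
    obtain ⟨b₀, hb₀⟩ := (Scheme.ΓSpecIso (CommRingCat.of k)).symm.commRingCatIsoToRingEquiv.surjective b.1
    have hb : b₀ ≠ 0 := fun h0 => b.2 (by rw [← hb₀, h0, map_zero]; exact Ideal.zero_mem _)
    refine ⟨a / b₀, ?_⟩
    have hu := IsLocalization.map_units (S.presheaf.stalk (f y)) b
    refine hu.mul_left_injective (Eq.trans ?_ hab.symm)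
    change _ * algebraMap Γ(S, ⊤) _ b.1 = _
    rw [← hb₀]
    exact (map_mul _ _ _).symm.trans (congrArg _ (div_mul_cancel₀ a hb))

include k f in
/-- `cd_ℓ Frac(R/P) ≤ dim (R / pR)` for a strict henselization `R`. -/
theorem cohDimLEAt_strictLocal (ℓ : ℕ) [Fact ℓ.Prime] {x y : X} (hxy : x ⤳ y)
    (R : Type u) [CommRing R] [IsLocalRing R] [Algebra (X.presheaf.stalk y) R]
    [IsLocalHom (algebraMap (X.presheaf.stalk y) R)] [Hensel.IsStrictHenselization (X.presheaf.stalk y) R]
    (P : Ideal R) (hP : P ∈ ((RingHom.ker (Cyc.specMap y x hxy)).map (algebraMap (X.presheaf.stalk y) R)).minimalPrimes)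
    (e : ℕ) (he : ringKrullDim (R ⧸ (RingHom.ker (Cyc.specMap y x hxy)).map (algebraMap (X.presheaf.stalk y) R)) = e) :
    Dix.CohDimLEAt (Spec (CommRingCat.of (FractionRing (R ⧸ P)))) ℓ e := by
  haveI := LocallyOfFiniteType.isLocallyNoetherian f
  haveI : (RingHom.ker (Cyc.specMap y x hxy)).IsPrime := RingHom.ker_isPrime _
  let A := X.presheaf.stalk y
  let p : Ideal A := RingHom.ker (Cyc.specMap y x hxy)
  have hlike := Hensel.isHenzLike_of_isStrictHenselization A R
  haveI := hP.1.1
  haveI : HenselianLocalRing R := Hensel.IsStrictHenselization.henselian A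
  have hsc := Hensel.IsStrictHenselization.isSepClosure (R := A) (S := R)
  haveI : IsSepClosed (IsLocalRing.ResidueField R) := hsc.sep_closed
  haveI : Algebra.IsSeparable (IsLocalRing.ResidueField A) (IsLocalRing.ResidueField R) := hsc.separable
  let L := FractionRing (R ⧸ P)
  have hcomap := comap_of_mem_minimalPrimes hlike p P hP
  -- the field `κ(x)` maps to `L`
  letI : Algebra A (X.residueField x) := (Cyc.specMap y x hxy).toAlgebra
  have hker : ∀ a : A, algebraMap A L a = 0 ↔ Cyc.specMap y x hxy a = 0 := fun a => by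
    rw [IsScalarTower.algebraMap_apply A (R ⧸ P) L, map_eq_zero_iff _ (IsFractionRing.injective (R ⧸ P) L),
      IsScalarTower.algebraMap_apply A R (R ⧸ P), Ideal.Quotient.algebraMap_eq, Ideal.Quotient.eq_zero_iff_mem,
      ← Ideal.mem_comap, hcomap]
    exact RingHom.mem_ker
  let i : A ⧸ p →+* X.residueField x := RingHom.kerLift (Cyc.specMap y x hxy)
  letI : Algebra (A ⧸ p) (X.residueField x) := i.toAlgebra
  haveI : IsFractionRing (A ⧸ p) (X.residueField x) := by
    haveI : FaithfulSMul (A ⧸ p) (X.residueField x) :=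
      (faithfulSMul_iff_algebraMap_injective _ _).2 (RingHom.kerLift_injective _)
    refine IsFractionRing.of_field _ _ fun z => ?_
    obtain ⟨a, b, hb, hab⟩ := exists_specMap_div hxy z
    refine ⟨Ideal.Quotient.mk p a, Ideal.Quotient.mk p b, ?_⟩
    show z = Cyc.specMap y x hxy a / Cyc.specMap y x hxy b
    rw [← hab, mul_div_cancel_right₀ _ hb]
  let θ : A ⧸ p →+* L := Ideal.Quotient.lift p (algebraMap A L) fun a ha => (hker a).2 ha
  have hθ : Function.Injective θ :=
    RingHom.lift_injective_of_ker_le_ideal p _ fun a ha => (hker a).1 ha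
  letI : Algebra (X.residueField x) L := (IsFractionRing.lift (K := X.residueField x) hθ).toAlgebra
  haveI : IsScalarTower A (X.residueField x) L := IsScalarTower.of_algebraMap_eq fun a =>
    (IsFractionRing.lift_algebraMap hθ (Ideal.Quotient.mk p a)).symm
  haveI : Algebra.IsAlgebraic (X.residueField x) L := by
    refine ⟨fun z => ?_⟩
    obtain ⟨a, b, -, rfl⟩ := IsFractionRing.div_surjective (R ⧸ P) z
    obtain ⟨a, rfl⟩ := Ideal.Quotient.mk_surjective a
    obtain ⟨b, rfl⟩ := Ideal.Quotient.mk_surjective b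
    have key := isAlgebraic_of_henzLike hlike (X.residueField x) L (IsScalarTower.toAlgHom A R L)
    rw [div_eq_mul_inv]
    exact (key a).mul (key b).inv
  -- `k`-structures
  let ψ : k →+* A := (X.presheaf.germ ⊤ y trivial).hom.comp (VarDim.baseMap f)
  letI : Algebra k A := ψ.toAlgebra
  letI : Algebra k R := ((algebraMap A R).comp ψ).toAlgebra
  haveI : IsScalarTower k A R := IsScalarTower.of_algebraMap_eq fun _ => rfl
  haveI : IsScalarTower k R L := inferInstance
  have ha : Algebra.trdeg k L ≤ (VarDim.deg f x : ℕ) := by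
    letI : Algebra k (X.residueField x) := (VarDim.resHom f x).toAlgebra
    haveI : IsScalarTower k (X.residueField x) L := IsScalarTower.of_algebraMap_eq fun c => by
      rw [IsScalarTower.algebraMap_apply k R L]
      show algebraMap R L (algebraMap A R (ψ c)) = algebraMap (X.residueField x) L _
      rw [← IsScalarTower.algebraMap_apply A R L, IsScalarTower.algebraMap_apply A (X.residueField x) L]
      refine congrArg _ ?_
      show X.residue x (X.presheaf.stalkSpecializes hxy (X.presheaf.germ ⊤ y trivial (VarDim.baseMap f c))) = _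
      rw [TopCat.Presheaf.germ_stalkSpecializes_apply]
      rfl
    rw [← trdeg_add_eq k (X.residueField x) (A := L), trdeg_eq_zero (R := X.residueField x) (A := L), add_zero,
      trdeg_residueField k f x]
  have hb : Algebra.trdeg k (IsLocalRing.ResidueField R) = (VarDim.deg f y : ℕ) := by
    letI : Algebra k (X.residueField y) := (VarDim.resHom f y).toAlgebra
    letI : Algebra (X.residueField y) (IsLocalRing.ResidueField R) :=
      inferInstanceAs (Algebra (IsLocalRing.ResidueField A) (IsLocalRing.ResidueField R))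
    haveI : Algebra.IsSeparable (X.residueField y) (IsLocalRing.ResidueField R) := hsc.separable
    haveI : IsScalarTower k (X.residueField y) (IsLocalRing.ResidueField R) :=
      IsScalarTower.of_algebraMap_eq fun c => rfl
    rw [← trdeg_add_eq k (X.residueField y) (A := IsLocalRing.ResidueField R),
      trdeg_eq_zero (R := X.residueField y) (A := IsLocalRing.ResidueField R), add_zero,
      trdeg_residueField k f y]
  refine cohDimLEAt_of_henselian k R L ℓ _ _ e ha hb ?_
  -- dimensions
  have hq : ringKrullDim (A ⧸ p) = (DimFormula.cd x y : WithBot ℕ∞) := by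
    let s : Spec (X.residueField x) ⟶ Spec A := Spec.map (CommRingCat.ofHom (Cyc.specMap y x hxy))
    let a : PrimeSpectrum A := s.base default
    have ha' : a.asIdeal = p := by
      let t : PrimeSpectrum (X.residueField x) := (default : Spec (X.residueField x))
      have ht : t.asIdeal = ⊥ := (Ideal.eq_bot_or_top t.asIdeal).resolve_right t.isPrime.ne_top
      change t.asIdeal.comap (Cyc.specMap y x hxy) = p
      rw [ht]
      rfl
    have hax : (X.fromSpecStalk y).base a = x := by
      have h : s ≫ X.fromSpecStalk y = X.fromSpecResidueField x := by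
        change Spec.map (X.presheaf.stalkSpecializes hxy ≫ X.residue x) ≫ _ = _
        rw [Spec.map_comp, Category.assoc, Scheme.SpecMap_stalkSpecializes_fromSpecStalk]
        rfl
      rw [← Scheme.Hom.comp_apply, h]
      exact Scheme.fromSpecResidueField_apply x _
    rw [← ha', DimFormula.ringKrullDim_stalk_quotient y a, hax]
  have h1 := le_ringKrullDim_quotient hlike p
  rw [hq, he] at h1
  have h1' : DimFormula.cd x y ≤ e := by exact_mod_cast h1
  have := deg_eq_cd_add k f hxy
  omega

end Groth.Agent.CdField
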