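import Groth.Agent.CdField.Trdeg
import Mathlib.RingTheory.Henselian
import Mathlib.RingTheory.AlgebraicIndependent.TranscendenceBasis
import Mathlib.RingTheory.LocalRing.ResidueField.Basic

/-! The cohomological dimension of a field receiving a henselian local ring with separably closed
residue field is bounded by the difference of the transcendence degrees. -/

set_option autoImplicit false
set_option backward.isDefEq.respectTransparency.types false

universe u

open CategoryTheory CategoryTheory.Limits AlgebraicGeometry Opposite Polynomial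

namespace Groth.Agent.CdField

open Groth.Agent.CdLib

/-- A separably closed field has cohomological dimension zero. -/
theorem cohDimLEAt_zero (F : Type u) [Field F] [IsSepClosed F] (ℓ : ℕ) :
    Dix.CohDimLEAt (Spec (CommRingCat.of F)) ℓ 0 := by
  intro G _ q hq
  obtain ⟨m, rfl⟩ : ∃ m, q = m + 1 := ⟨q - 1, by omega⟩
  exact @SepAcyclic.subsingleton_H_integral F _ ‹_› _ (𝟙 (Spec (CommRingCat.of F)))
    (MorphismProperty.id_mem @IsIntegralHom _) m G

/-- The separable closure is separably closed in an extension in which all separable polynomials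
over the ground field split. -/
theorem isSepClosed_separableClosure (E L : Type u) [Field E] [Field L] [Algebra E L]
    (h : ∀ f : E[X], f.Monic → Irreducible f → f.Separable → (f.map (algebraMap E L)).Splits) :
    IsSepClosed (separableClosure E L) := by
  let F := separableClosure E L
  refine IsSepClosed.of_exists_root _ fun p _ hirr hsep => ?_
  let Ω := AlgebraicClosure L
  obtain ⟨x, hx⟩ := IsSepClosed.exists_aeval_eq_zero Ω p (degree_pos_of_irreducible hirr).ne' hsep
  have hx' : IsSeparable E x :=
    IsSeparable.of_algebra_isSeparable_of_isSeparable E (E := F) (hsep.of_dvd (minpoly.dvd _ x hx))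
  let g := minpoly E x
  have hg := h g (minpoly.monic hx'.isIntegral) (minpoly.irreducible hx'.isIntegral) hx'
  obtain ⟨l, hl, hlx⟩ : x ∈ (IsScalarTower.toAlgHom E L Ω) '' g.rootSet L := by
    rw [Polynomial.Splits.image_rootSet hg]
    exact mem_rootSet.2 ⟨minpoly.ne_zero hx'.isIntegral, minpoly.aeval E x⟩
  have hl' : l ∈ F := by
    rw [mem_separableClosure_iff]
    exact Separable.of_dvd hx' (minpoly.dvd E l (mem_rootSet.1 hl).2)
  refine ⟨⟨l, hl'⟩, (algebraMap F Ω).injective ?_⟩
  rw [map_zero, ← hx]
  show algebraMap F Ω (p.eval ⟨l, hl'⟩) = _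
  rw [← aeval_algebraMap_apply_eq_algebraMap_eval]
  exact congrArg (fun z : Ω => aeval z p) hlx

/-- Separable polynomials split in the target of a henselian ring with separably closed residue field. -/
theorem splits_of_henselian (E R L : Type u) [Field E] [CommRing R] [HenselianLocalRing R] [Field L]
    [IsSepClosed (IsLocalRing.ResidueField R)] [Algebra E R] [Algebra R L] [Algebra E L] [IsScalarTower E R L]
    (f : E[X]) (hm : f.Monic) (hs : f.Separable) : (f.map (algebraMap E L)).Splits := by
  classical
  let κ := IsLocalRing.ResidueField R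
  let F := f.map (algebraMap E R)
  let fκ := f.map (algebraMap E κ)
  have hsep : fκ.Separable := hs.map
  have hsplit : fκ.Splits := IsSepClosed.splits_of_separable fκ hsep
  have hFκ : F.map (IsLocalRing.residue R) = fκ := Polynomial.map_map _ _ _
  have hlift : ∀ a : fκ.roots.toFinset, ∃ r : R, F.IsRoot r ∧ IsLocalRing.residue R r = a := by
    rintro ⟨a, ha⟩
    rw [Multiset.mem_toFinset, mem_roots (hm.map _).ne_zero] at ha
    obtain ⟨r₀, rfl⟩ := IsLocalRing.residue_surjective a
    have h0 : F.eval r₀ ∈ IsLocalRing.maximalIdeal R := by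
      rw [← IsLocalRing.residue_eq_zero_iff, ← eval_map_apply, hFκ]
      exact ha
    have h1 : IsUnit (F.derivative.eval r₀) := by
      rw [← IsLocalRing.residue_ne_zero_iff_isUnit, ← eval_map_apply, ← derivative_map, hFκ]
      exact hsep.eval₂_derivative_ne_zero (RingHom.id κ) (x := IsLocalRing.residue R r₀) ha
    obtain ⟨r, hr, hr'⟩ := HenselianLocalRing.is_henselian F (hm.map _) r₀ h0 h1
    exact ⟨r, hr, sub_eq_zero.1 ((map_sub _ _ _).symm.trans (IsLocalRing.residue_eq_zero_iff _ |>.2 hr'))⟩
  choose r hr hra using hlift
  let S : Finset L := Finset.univ.image fun a => algebraMap R L (r a)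
  have hinj : Function.Injective fun a => algebraMap R L (r a) := by
    intro a b hab
    by_contra hne
    have : IsUnit (r a - r b) := by
      rw [← IsLocalRing.residue_ne_zero_iff_isUnit, map_sub, hra, hra, sub_ne_zero]
      exact fun h => hne (Subtype.ext h)
    exact (this.map (algebraMap R L)).ne_zero (by rw [map_sub]; exact sub_eq_zero.2 hab)
  have hcard : S.card = f.natDegree := by
    rw [Finset.card_image_of_injective _ hinj, Finset.card_univ, Fintype.card_coe,
      Multiset.toFinset_card_of_nodup (nodup_roots hsep), ← hsplit.natDegree_eq_card_roots, natDegree_map]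
  refine splits_iff_card_roots.2 (le_antisymm (card_roots' _) ?_)
  rw [natDegree_map, ← hcard]
  refine (Finset.card_le_card fun z hz => ?_).trans (Multiset.toFinset_card_le _)
  obtain ⟨a, -, rfl⟩ := Finset.mem_image.1 hz
  rw [Multiset.mem_toFinset, mem_roots (hm.map _).ne_zero, IsScalarTower.algebraMap_eq E R L,
    ← Polynomial.map_map]
  exact (hr a).map

/-- `cd_ℓ L ≤ trdeg L - trdeg κ` for a henselian local ring with separably closed residue field `κ`
mapping to `L`. -/
theorem cohDimLEAt_of_henselian (k R L : Type u) [Field k] [CommRing R] [HenselianLocalRing R] [Field L]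
    [Algebra k R] [Algebra R L] [Algebra k L] [IsScalarTower k R L]
    [IsSepClosed (IsLocalRing.ResidueField R)] (ℓ : ℕ) [Fact ℓ.Prime] (a b e : ℕ)
    (ha : Algebra.trdeg k L ≤ a) (hb : Algebra.trdeg k (IsLocalRing.ResidueField R) = b) (he : a ≤ b + e) :
    Dix.CohDimLEAt (Spec (CommRingCat.of L)) ℓ e := by
  let κ := IsLocalRing.ResidueField R
  obtain ⟨s, hs⟩ := exists_isTranscendenceBasis k κ
  choose t ht using fun x : s => IsLocalRing.residue_surjective (x : κ)
  let φ : MvPolynomial s k →ₐ[k] R := MvPolynomial.aeval t
  have hres : ∀ p, IsLocalRing.residue R (φ p) = MvPolynomial.aeval (fun x : s => (x : κ)) p := by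
    intro p
    refine ((congrFun (congrArg DFunLike.coe (MvPolynomial.comp_aeval t (IsScalarTower.toAlgHom k R κ))) p).symm.symm
      |>.trans ?_)
    exact congrArg (fun g => MvPolynomial.aeval g p) (funext ht)
  have hunit : ∀ p : nonZeroDivisors (MvPolynomial s k), IsUnit (φ p) := fun p => by
    rw [← IsLocalRing.residue_ne_zero_iff_isUnit, hres]
    exact fun h => nonZeroDivisors.ne_zero p.2 (hs.1 (h.trans (map_zero _).symm))
  let E := FractionRing (MvPolynomial s k)
  letI : Algebra E R := (IsLocalization.lift (S := E) hunit : E →+* R).toAlgebra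
  letI : Algebra E L := ((algebraMap R L).comp (algebraMap E R)).toAlgebra
  haveI : IsScalarTower E R L := IsScalarTower.of_algebraMap_eq fun _ => rfl
  haveI : IsScalarTower k E R := IsScalarTower.of_algebraMap_eq fun c => by
    show algebraMap k R c = IsLocalization.lift hunit (algebraMap k E c)
    rw [IsScalarTower.algebraMap_apply k (MvPolynomial s k) E, IsLocalization.lift_eq]
    exact (φ.commutes c).symm
  haveI : IsScalarTower k E L := IsScalarTower.of_algebraMap_eq fun c => by
    rw [IsScalarTower.algebraMap_apply k R L, IsScalarTower.algebraMap_apply k E R]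
    rfl
  have hE : Algebra.trdeg k E = b := by
    haveI : Algebra.IsAlgebraic (MvPolynomial s k) E := IsLocalization.isAlgebraic _ (nonZeroDivisors _)
    rw [← trdeg_add_eq k (MvPolynomial s k) (A := E), trdeg_eq_zero (R := MvPolynomial s k) (A := E), add_zero,
      MvPolynomial.trdeg_of_isDomain, Cardinal.lift_id, ← hb]
    exact hs.cardinalMk_eq_trdeg
  haveI := isSepClosed_separableClosure E L fun f hm _ hf => splits_of_henselian E R L f hm hf
  let F := separableClosure E L
  have h1 := trdeg_add_eq k E (A := L)
  rw [hE] at h1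
  rw [← h1] at ha
  have h2 : Algebra.trdeg E L ≤ e := by
    have : (b : Cardinal.{u}) + Algebra.trdeg E L ≤ (b : Cardinal.{u}) + e :=
      ha.trans (by exact_mod_cast he)
    rwa [add_comm, add_comm (b : Cardinal) (e : Cardinal),
      Cardinal.add_le_add_iff_of_lt_aleph0 Cardinal.natCast_lt_aleph0] at this
  have h3 : Algebra.trdeg F L ≤ e := by
    rwa [← trdeg_add_eq E F (A := L), trdeg_eq_zero (R := E) (A := F), zero_add] at h2
  simpa using cohDimLEAt_add ℓ e F L h3 0 (cohDimLEAt_zero F ℓ)

end Groth.Agent.CdField
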