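import Groth.Agent.CdField.Step
import Mathlib.FieldTheory.RatFunc.AsPolynomial
import Mathlib.RingTheory.AlgebraicIndependent.TranscendenceBasis

/-! `cd_ℓ K ≤ cd_ℓ k + trdeg_k K`. -/

set_option autoImplicit false
set_option backward.isDefEq.respectTransparency.types false

universe u

open CategoryTheory CategoryTheory.Limits AlgebraicGeometry Opposite

namespace Groth.Agent.CdField

theorem trdeg_ratFunc (k : Type u) [Field k] : Algebra.trdeg k (RatFunc k) = 1 := by
  haveI : Algebra.IsAlgebraic (Polynomial k) (RatFunc k) := IsLocalization.isAlgebraic _ (nonZeroDivisors _)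
  rw [← trdeg_add_eq k (Polynomial k) (A := RatFunc k), Polynomial.trdeg_of_isDomain, trdeg_eq_zero, add_zero]

/-- `cd_ℓ K ≤ cd_ℓ k + n` if `trdeg_k K ≤ n`. -/
theorem cohDimLEAt_add (ℓ : ℕ) [hℓ : Fact ℓ.Prime] : ∀ (n : ℕ) (k K : Type u) [Field k] [Field K] [Algebra k K],
    Algebra.trdeg k K ≤ n → ∀ d : ℕ, Dix.CohDimLEAt (Spec (CommRingCat.of k)) ℓ d →
      Dix.CohDimLEAt (Spec (CommRingCat.of K)) ℓ (d + n) := by
  intro n
  induction n with
  | zero =>
    intro k K _ _ _ ht d hd
    haveI : Algebra.IsAlgebraic k K := trdeg_eq_zero_iff.1 (le_antisymm (by simpa using ht) bot_le)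
    exact cohDimLEAt_of_isAlgebraic k K hd
  | succ n ih =>
    intro k K _ _ _ ht d hd
    by_cases halg : Algebra.IsAlgebraic k K
    · intro F hF q hq
      exact cohDimLEAt_of_isAlgebraic k K hd F hF q (by omega)
    · obtain ⟨x, hx⟩ := not_forall.1 (fun h => halg ⟨h⟩)
      let E := IntermediateField.adjoin k ({x} : Set K)
      have hE : Algebra.trdeg k E = 1 := by
        rw [← (RatFunc.algEquivOfTranscendental x hx).trdeg_eq, trdeg_ratFunc]
      have hK : Algebra.trdeg E K ≤ n := by
        have h := trdeg_add_eq k E (A := K)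
        rw [hE] at h
        rw [← h, Nat.cast_succ, add_comm (n : Cardinal)] at ht
        exact (Cardinal.add_le_add_iff_of_lt_aleph0 Cardinal.one_lt_aleph0).1 (by rwa [add_comm _ (1 : Cardinal), add_comm _ (1 : Cardinal)])
      have h := ih E K hK (d + 1) (cohDimLEAt_succ k E hE ℓ d hd)
      rwa [add_assoc, add_comm 1 n] at h

end Groth.Agent.CdField
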