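import Groth.Agent.CdField.Basic
import Mathlib.Data.Nat.Factorization.Basic

/-! On a field, vanishing for primary torsion sheaves gives vanishing for torsion sheaves. -/

set_option autoImplicit false
set_option backward.isDefEq.respectTransparency.types false

universe u

open CategoryTheory CategoryTheory.Limits AlgebraicGeometry Opposite

namespace Groth.Agent.CdField

open Groth.Agent.CdLib

theorem isPrimaryTorsion_of_nsmul_eq_zero {X : Scheme.{u}} {G : EtCoh.Ab X} (ℓ k : ℕ) (h : ℓ ^ k • 𝟙 G = 0) :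
    Dix.IsPrimaryTorsion ℓ G := by
  intro U s x
  refine ⟨U, 𝟙 U, ⟨x, rfl⟩, k, ?_⟩
  rw [op_id, G.obj.map_id]
  refine Eq.trans ?_ ((congrArg (fun e : G ⟶ G => (e.hom.app (op U)).hom s) h).trans rfl)
  exact (congrArg (ℓ ^ k • ·) (ConcreteCategory.id_apply (X := G.obj.obj (op U)) s)).trans
    (GalDual.app_nsmul G _ U s).symm

variable {K : Type u} [Field K]

theorem stalk_isOfFinAddOrder {F : EtCoh.Ab (Spec (CommRingCat.of K))} (hF : EtCoh.IsTorsion F)
    (t : (EtCoh.stalk (SepLimit.σ K)).obj F) : IsOfFinAddOrder t := by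
  obtain ⟨U, u, s, rfl⟩ := (Scheme.pointSmallEtale (SepLimit.σ K)).toPresheafFiber_jointly_surjective t
  obtain ⟨V, g, ⟨v, hv⟩, h0⟩ := hF U s (EtFound.ptOf u)
  obtain ⟨v', rfl, -⟩ := EtFound.exists_lift_point g u v hv
  have h := AddMonoidHom.isOfFinAddOrder
    ((Scheme.pointSmallEtale (SepLimit.σ K)).toPresheafFiber V v' F.obj).hom h0
  erw [(Scheme.pointSmallEtale (SepLimit.σ K)).toPresheafFiber_w_apply g v' F.obj s] at h
  exact h

/-- A torsion sheaf on a field has the cohomology of its subsheaves with finite stalk. -/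
theorem subsingleton_H_of_finite_torsion {F : EtCoh.Ab (Spec (CommRingCat.of K))} (hF : EtCoh.IsTorsion F) (q : ℕ)
    (h : ∀ G : EtCoh.Ab (Spec (CommRingCat.of K)), Finite ((EtCoh.stalk (SepLimit.σ K)).obj G) →
      Subsingleton (EtCoh.H (Spec (CommRingCat.of K)) G q)) :
    Subsingleton (EtCoh.H (Spec (CommRingCat.of K)) F q) := by
  haveI := EtLC12.QcqsAcyclic.preservesColimitsOfShape_HF (Spec (CommRingCat.of K)) q (Finset (St F))
  haveI := isIso_desc F
  let X := Spec (CommRingCat.of K)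
  have h0 : ∀ z : (EtCoh.HF X q).obj (colimit (diag F)), z = 0 := fun z => by
    obtain ⟨S, a, rfl⟩ := Concrete.isColimit_exists_rep _
      (isColimitOfPreserves (EtCoh.HF X q) (colimit.isColimit (diag F))) z
    have hfin : Finite ((EtCoh.stalk (SepLimit.σ K)).obj (G F S)) := by
      haveI : AddGroup.FG (H F S) := (AddGroup.fg_iff_addSubgroup_fg _).2 (H_fg F S)
      haveI : Finite (H F S) := AddCommGroup.finite_of_fg_isAddTorsion _ fun t => by
        obtain ⟨d, hd, hd0⟩ := isOfFinAddOrder_iff_nsmul_eq_zero.1 (stalk_isOfFinAddOrder hF t.1)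
        exact isOfFinAddOrder_iff_nsmul_eq_zero.2 ⟨d, hd, Subtype.ext hd0⟩
      refine Finite.of_injective (fun g => (⟨_, G_stalk_mem F S g⟩ : H F S)) fun a b hab => ?_
      exact (AddCommGrpCat.mono_iff_injective ((EtCoh.stalk (SepLimit.σ K)).map (kernel.ι (η F S)))).1
        inferInstance (congrArg Subtype.val hab)
    haveI : Subsingleton ((EtCoh.HF X q).obj ((diag F).obj S)) := h _ hfin
    exact (congrArg _ (Subsingleton.elim (α := (EtCoh.HF X q).obj ((diag F).obj S)) a 0)).trans (map_zero _)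
  haveI : Subsingleton ((EtCoh.HF X q).obj (colimit (diag F))) := subsingleton_of_forall_eq 0 h0
  exact (((EtCoh.HF X q).mapIso (asIso (colimit.desc (diag F) (cocone F)))).addCommGroupIsoToAddEquiv).symm.injective.subsingleton

/-- `cd ≤ d` from `cd_ℓ ≤ d` for all primes. -/
theorem cohDimLE_of_forall {d : ℕ}
    (h : ∀ ℓ : ℕ, ℓ.Prime → Dix.CohDimLEAt (Spec (CommRingCat.of K)) ℓ d) :
    EtCoh.CohDimLE (Spec (CommRingCat.of K)) d := by
  intro F hF q hq
  refine subsingleton_H_of_finite_torsion hF q fun G hfin => subsingleton_of_forall_eq 0 fun x => ?_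
  let N := Nat.card ((EtCoh.stalk (SepLimit.σ K)).obj G)
  have hN : N ≠ 0 := Nat.card_pos.ne'
  have hexp : N • 𝟙 G = 0 := eq_zero_of_σ _ fun t => (stalk_map_nsmul G _ t).trans card_nsmul_eq_zero'
  have hNx : N • x = 0 := by
    rw [GalDual.nsmul_eq_comp, hexp, Abelian.Ext.mk₀_zero, Abelian.Ext.comp_zero]
  have key : ∀ p : ℕ, p.Prime → (N / p ^ N.factorization p) • x = 0 := by
    intro p hp
    let a := N / p ^ N.factorization p
    let f : G ⟶ G := a • 𝟙 G
    have hI : p ^ N.factorization p • 𝟙 (Abelian.image f) = 0 := by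
      rw [← cancel_epi (Abelian.factorThruImage f), ← cancel_mono (Abelian.image.ι f), Preadditive.comp_nsmul,
        Category.comp_id, Preadditive.nsmul_comp, Abelian.image.fac, comp_zero, zero_comp, smul_smul,
        Nat.ordProj_mul_ordCompl_eq_self]
      exact hexp
    haveI := h p hp _ (isPrimaryTorsion_of_nsmul_eq_zero p _ hI) q hq
    rw [GalDual.nsmul_eq_comp, show (N / p ^ N.factorization p) • 𝟙 G = f from rfl, ← Abelian.image.fac f,
      ← Abelian.Ext.mk₀_comp_mk₀, ← Abelian.Ext.comp_assoc_of_third_deg_zero,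
      show x.comp (Abelian.Ext.mk₀ (Abelian.factorThruImage f)) (add_zero q) = 0 from
        Subsingleton.elim (α := EtCoh.H (Spec (CommRingCat.of K)) (Abelian.image f) q) _ _, Abelian.Ext.zero_comp]
  refine AddMonoid.addOrderOf_eq_one_iff.1 (Nat.eq_one_iff_not_exists_prime_dvd.2 fun p hp hdvd => ?_)
  exact Nat.not_dvd_ordCompl hp hN (hdvd.trans (addOrderOf_dvd_of_nsmul_eq_zero (key p hp)))

theorem cohDimLEAt_of_cohDimLE {X : Scheme.{u}} {ℓ d : ℕ} (hℓ : 0 < ℓ) (h : EtCoh.CohDimLE X d) :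
    Dix.CohDimLEAt X ℓ d := by
  intro F hF q hq
  refine h F (fun U s x => ?_) q hq
  obtain ⟨V, g, hv, k, h0⟩ := hF U s x
  exact ⟨V, g, hv, isOfFinAddOrder_iff_nsmul_eq_zero.2 ⟨ℓ ^ k, pow_pos hℓ k, h0⟩⟩

end Groth.Agent.CdField
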