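import Groth.Agent.CdField.LerayLeft
import Groth.Agent.CdLib.TorsionClass
import Groth.Agent.CdLib.SepAcyclic
import Groth.Agent.S0642
import Groth.Agent.S3054
import Groth.Prelude.Def_EtCore
import Mathlib.FieldTheory.PurelyInseparable.Basic

/-! Cohomological dimension of fields along algebraic extensions. -/

set_option autoImplicit false
set_option backward.isDefEq.respectTransparency.types false

universe u

open CategoryTheory CategoryTheory.Limits AlgebraicGeometry Opposite

namespace Groth.Agent.CdField

open Groth.Agent.CdLib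

variable (K L : Type u) [Field K] [Field L] [Algebra K L] {ℓ d : ℕ}

/-- Algebraic extensions do not increase the cohomological dimension. -/
theorem cohDimLEAt_of_isAlgebraic [Algebra.IsAlgebraic K L]
    (h : Dix.CohDimLEAt (Spec (CommRingCat.of K)) ℓ d) : Dix.CohDimLEAt (Spec (CommRingCat.of L)) ℓ d := by
  intro F hF q hq
  let π : Spec (CommRingCat.of L) ⟶ Spec (CommRingCat.of K) :=
    Spec.map (CommRingCat.ofHom (algebraMap K L))
  haveI : IsIntegralHom π := by
    rw [IsIntegralHom.SpecMap_iff]
    exact Algebra.IsIntegral.isIntegral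
  haveI := EtFound.pull_preservesFiniteLimits π
  obtain ⟨m, rfl⟩ : ∃ m, q = m + 1 := ⟨q - 1, by omega⟩
  haveI : QuasiCompact π := quasiCompact_of_compactSpace _
  refine subsingleton_H_of_push π F m (h _ (TorsionClass.isPrimaryTorsion_push ℓ π hF) _ hq) fun a b _ => ?_
  exact Devissage.subsingleton_H_of_isZero _ (S3054.result π F (b + 1) b.succ_pos) a

/-- Purely inseparable extensions do not decrease the cohomological dimension. -/
theorem cohDimLEAt_of_purelyInseparable [IsPurelyInseparable K L]
    (h : Dix.CohDimLEAt (Spec (CommRingCat.of L)) ℓ d) : Dix.CohDimLEAt (Spec (CommRingCat.of K)) ℓ d := by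
  intro F hF q hq
  let π : Spec (CommRingCat.of L) ⟶ Spec (CommRingCat.of K) :=
    Spec.map (CommRingCat.ofHom (algebraMap K L))
  haveI : IsIntegralHom π := by
    rw [IsIntegralHom.SpecMap_iff]
    exact Algebra.IsIntegral.isIntegral
  haveI : Surjective π := ⟨fun x => ⟨default, Subsingleton.elim (α := ↥(Spec (CommRingCat.of K))) _ _⟩⟩
  haveI : UniversallyInjective π := by
    refine ((tfae_universallyInjective π).out 1 0).1 fun M iM g₁ g₂ hg => ?_
    letI := iM
    obtain ⟨a, rfl⟩ := Spec.map_surjective g₁
    obtain ⟨b, rfl⟩ := Spec.map_surjective g₂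
    have h := (Spec.map_injective ((Spec.map_comp _ _).trans (hg.trans (Spec.map_comp _ _).symm)))
    refine congrArg Spec.map (CommRingCat.hom_ext ?_)
    exact IsPurelyInseparable.injective_comp_algebraMap K L M (congrArg CommRingCat.Hom.hom h)
  haveI := EtFound.pull_preservesFiniteLimits π
  haveI := h _ (Supp.isPrimaryTorsion_pull ℓ π hF) q hq
  exact (S0642.result π F q).1.subsingleton

end Groth.Agent.CdField
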