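import Groth.Agent.CdField.Split
import Groth.Agent.CdLib.StalkVanish
import Groth.Agent.CdLib.TorsionClass
import Groth.Agent.CdLib.SepAcyclic
import Groth.Agent.EtFound.PullGerm
import Groth.Agent.GalDual.CohDim
import Groth.Prelude.Def_EtCore

/-! `cd_ℓ K ≤ d` as soon as `H^(d+1)(E, ℤ/ℓ)` vanishes for all finite separable extensions `E` of `K`. -/

set_option autoImplicit false
set_option backward.isDefEq.respectTransparency.types false

universe u

open CategoryTheory CategoryTheory.Limits AlgebraicGeometry Opposite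

namespace Groth.Agent.CdField

open Groth.Agent.EtFound Groth.Agent.CdLib

/-- base change along the identity -/
noncomputable def bcIdIso (X : Scheme.{u}) : EtCoh.bc (𝟙 X) ≅ 𝟭 X.Etale :=
  NatIso.ofComponents
    (fun V => MorphismProperty.Over.isoMk
      (@asIso _ _ _ _ (pullback.fst (V.hom : V.left ⟶ X) (𝟙 X))
        (IsPullback.of_hasPullback (V.hom : V.left ⟶ X) (𝟙 X)).isIso_fst_of_isIso)
      (by exact pullback.condition.trans (Category.comp_id _)))
    (fun g => MorphismProperty.Over.Hom.ext (by exact pullback.lift_fst _ _ _))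

/-- inverse image along the identity -/
noncomputable def pullIdIso (X : Scheme.{u}) : EtCoh.pull (𝟙 X) ≅ 𝟭 (EtCoh.Ab X) :=
  (EtCoh.pullPushAdj (𝟙 X)).leftAdjointIdIso
    (Functor.sheafPushforwardContinuousId' (bcIdIso X) AddCommGrpCat.{u + 1} X.smallEtaleTopology)

section germs

variable {X X' : Scheme.{u}} {k Ω : Type u} [Field k] [IsSepClosed k] [Field Ω] [IsSepClosed Ω]
  (ξ : Spec (CommRingCat.of k) ⟶ X) (l : Spec (CommRingCat.of Ω) ⟶ Spec (CommRingCat.of k))

theorem exists_germ_ext {e : Spec (CommRingCat.of Ω) ⟶ X} (h : l ≫ ξ = e) (G : EtCoh.Ab X) (V : X.Etale)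
    (z : (Scheme.pointSmallEtale ξ).fiber.obj V)
    (hz : Function.Surjective ((Scheme.pointSmallEtale ξ).toPresheafFiber V z G.obj))
    (z' : (Scheme.pointSmallEtale e).fiber.obj V)
    (hz' : @Eq (Spec (CommRingCat.of Ω) ⟶ V.left) z'.left
      (l ≫ (z.left : Spec (CommRingCat.of k) ⟶ V.left))) :
    Function.Surjective ((Scheme.pointSmallEtale e).toPresheafFiber V z' G.obj) := by
  subst h
  intro s
  let e := stalkExtIso AddCommGrpCat.{u + 1} ξ l
  obtain ⟨a, ha⟩ := hz (e.inv.app G s)
  refine ⟨a, ?_⟩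
  have h1 : e.hom.app G ((Scheme.pointSmallEtale ξ).toPresheafFiber V z G.obj a) =
      (Scheme.pointSmallEtale (l ≫ ξ)).toPresheafFiber V ((fiberExt ξ l).app V z) G.obj a :=
    (ConcreteCategory.comp_apply _ _ a).symm.trans
      (ConcreteCategory.congr_hom (pointHom_germ AddCommGrpCat.{u + 1} (pointExtIso ξ l).hom G.obj V z) a)
  rw [ha, ← ConcreteCategory.comp_apply, e.inv_hom_id_app] at h1
  have h2 : (fiberExt ξ l).app V z = z' := CategoryTheory.Over.OverMorphism.ext hz'.symm
  rw [h2] at h1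
  exact h1.symm.trans (ConcreteCategory.id_apply s)

/-- If the germs at a point fill up the stalk, so do those of the pulled back sections. -/
theorem exists_germ_pull (f : X' ⟶ X) (ξ' : Spec (CommRingCat.of Ω) ⟶ X') (h : l ≫ ξ = ξ' ≫ f)
    (G : EtCoh.Ab X) (V : X.Etale) (z : (Scheme.pointSmallEtale ξ).fiber.obj V)
    (hz : Function.Surjective ((Scheme.pointSmallEtale ξ).toPresheafFiber V z G.obj))
    (t : (Scheme.pointSmallEtale ξ').fiber.obj ((EtCoh.bc f).obj V))
    (ht : @Eq (Spec (CommRingCat.of Ω) ⟶ V.left) (bcFiberEquiv f ξ' V t).left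
      (l ≫ (z.left : Spec (CommRingCat.of k) ⟶ V.left)))
    (s : (EtCoh.stalk ξ').obj ((EtCoh.pull f).obj G)) :
    ∃ a : G.obj.obj (op V),
      (Scheme.pointSmallEtale ξ').toPresheafFiber _ t ((EtCoh.pull f).obj G).obj
        (((EtCoh.pullPushAdj f).unit.app G).hom.app (op V) a) = s := by
  let e := sheafFiberPullIso (A := AddCommGrpCat.{u + 1}) f ξ'
  obtain ⟨a, ha⟩ := exists_germ_ext ξ l h G V z hz (bcFiberEquiv f ξ' V t) ht (e.hom.app G s)
  refine ⟨a, ?_⟩
  have h1 := (ConcreteCategory.comp_apply _ _ a).symm.trans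
    ((ConcreteCategory.congr_hom (sheafFiberPullIso_germ f ξ' G V t) a).trans (ConcreteCategory.comp_apply _ _ a))
  rw [ha] at h1
  exact h1.symm.trans ((ConcreteCategory.comp_apply _ _ s).symm.trans
    ((ConcreteCategory.congr_hom (e.hom_inv_id_app G) s).trans (ConcreteCategory.id_apply s)))

end germs

variable {K : Type u} [Field K]

/-- Morphisms vanishing on the stalk at the separable closure vanish. -/
theorem eq_zero_of_σ {F G : EtCoh.Ab (Spec (CommRingCat.of K))} (f : F ⟶ G)
    (h : ∀ t, (EtCoh.stalk (SepLimit.σ K)).map f t = 0) : f = 0 := by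
  have hz : IsZero (Abelian.image f) := isZero_of_σ _ (subsingleton_of_forall_eq 0 fun y => by
    obtain ⟨t, rfl⟩ := (AddCommGrpCat.epi_iff_surjective
      ((EtCoh.stalk (SepLimit.σ K)).map (Abelian.factorThruImage f))).1 inferInstance y
    refine (AddCommGrpCat.mono_iff_injective ((EtCoh.stalk (SepLimit.σ K)).map (Abelian.image.ι f))).1
      inferInstance ?_
    rw [map_zero, ← ConcreteCategory.comp_apply, ← Functor.map_comp, Abelian.image.fac]
    exact h t)
  rw [← Abelian.image.fac f, hz.eq_of_src (Abelian.image.ι f) 0, comp_zero]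

theorem stalk_map_nsmul (G : EtCoh.Ab (Spec (CommRingCat.of K))) (n : ℕ)
    (t : (EtCoh.stalk (SepLimit.σ K)).obj G) :
    (EtCoh.stalk (SepLimit.σ K)).map (n • 𝟙 G) t = n • t := by
  obtain ⟨U, z, a, rfl⟩ := (Scheme.pointSmallEtale (SepLimit.σ K)).toPresheafFiber_jointly_surjective t
  refine ((Scheme.pointSmallEtale (SepLimit.σ K)).toPresheafFiber_naturality_apply (n • 𝟙 G : G ⟶ G).hom U z a).trans ?_
  rw [GalDual.app_nsmul]
  exact map_nsmul _ n a

variable {ℓ : ℕ} [hℓ : Fact ℓ.Prime]

/-- Cohomology of the pullback to a subfield over which the splitting extension is an `ℓ`-extension. -/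
theorem subsingleton_H_pull (q : ℕ) (G : EtCoh.Ab (Spec (CommRingCat.of K))) (hG : Dix.IsPrimaryTorsion ℓ G)
    [hfin : Finite ((EtCoh.stalk (SepLimit.σ K)).obj G)]
    (N : Type u) [Field N] [Algebra K N] [FiniteDimensional K N] [Algebra.IsSeparable K N]
    (j : N →ₐ[K] SeparableClosure K)
    (hsurj : Function.Surjective
      ((Scheme.pointSmallEtale (SepLimit.σ K)).toPresheafFiber (SepLimit.obj (K := K) N) (SepLimit.pt j) G.obj))
    (E : Type u) [Field E] [Algebra K E] [Algebra E N] [IsScalarTower K E N]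
    [FiniteDimensional E N] [IsGalois E N] (hP : IsPGroup ℓ (N ≃ₐ[E] N))
    (hE : Subsingleton (EtCoh.H (Spec (CommRingCat.of E)) (EtCoh.const (Spec (CommRingCat.of E)) (ZMod ℓ)) q)) :
    Subsingleton (EtCoh.H (Spec (CommRingCat.of E)) ((EtCoh.pull (GalDual.fieldMap K E)).obj G) q) := by
  haveI : Finite (G.obj.obj (op (SepLimit.obj (K := K) N))) :=
    @Finite.of_injective _ _ hfin _ (SepLimit.germ_injective G _ (SepLimit.pt j))
  letI : Algebra E (SeparableClosure K) := (j.comp (IsScalarTower.toAlgHom K E N)).toRingHom.toAlgebra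
  haveI : IsScalarTower K E (SeparableClosure K) :=
    IsScalarTower.of_algebraMap_eq fun r => ((j.comp (IsScalarTower.toAlgHom K E N)).commutes r).symm
  haveI : Algebra.IsSeparable E (SeparableClosure K) :=
    Algebra.isSeparable_tower_top_of_isSeparable K E (SeparableClosure K)
  let ι : SeparableClosure K →ₐ[E] SeparableClosure E := IsSepClosed.lift
  let j' : N →ₐ[E] SeparableClosure E :=
    { toRingHom := ι.toRingHom.comp j.toRingHom, commutes' := fun e => ι.commutes e }
  let π := GalDual.fieldMap K E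
  haveI := EtFound.pull_preservesFiniteLimits π
  let l : Spec (CommRingCat.of (SeparableClosure E)) ⟶ Spec (CommRingCat.of (SeparableClosure K)) :=
    Spec.map (CommRingCat.ofHom ι.toRingHom)
  have hl : l ≫ SepLimit.σ K = SepLimit.σ E ≫ π := by
    change Spec.map _ ≫ Spec.map _ = Spec.map _ ≫ Spec.map _
    rw [← Spec.map_comp, ← Spec.map_comp]
    refine congrArg Spec.map (CommRingCat.hom_ext (RingHom.ext fun r => ?_))
    show ι (algebraMap K (SeparableClosure K) r) = algebraMap E (SeparableClosure E) (algebraMap K E r)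
    rw [IsScalarTower.algebraMap_apply K E (SeparableClosure K), ι.commutes]
  let V := SepLimit.obj (K := K) N
  let w : SepLimit.obj (K := E) N ⟶ (EtCoh.bc π).obj V :=
    MorphismProperty.Over.homMk
      (pullback.lift (𝟙 (Spec (CommRingCat.of N))) (Spec.map (CommRingCat.ofHom (algebraMap E N))) (by
        change 𝟙 _ ≫ Spec.map _ = Spec.map _ ≫ Spec.map _
        rw [Category.id_comp, ← Spec.map_comp]
        exact congrArg Spec.map (CommRingCat.hom_ext (IsScalarTower.algebraMap_eq K E N))))
      (pullback.lift_snd _ _ _)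
  have hsplit : Split ((EtCoh.pull π).obj G) N j' := by
    intro s
    have ht : @Eq (Spec (CommRingCat.of (SeparableClosure E)) ⟶ V.left)
        (bcFiberEquiv π (SepLimit.σ E) V
          ((Scheme.pointSmallEtale (SepLimit.σ E)).fiber.map w (SepLimit.pt j'))).left
        (l ≫ ((SepLimit.pt j).left : Spec (CommRingCat.of (SeparableClosure K)) ⟶ V.left)) := by
      show (Spec.map (CommRingCat.ofHom j'.toRingHom) ≫
        pullback.lift (𝟙 (Spec (CommRingCat.of N))) (Spec.map (CommRingCat.ofHom (algebraMap E N))) _) ≫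
          pullback.fst _ _ = l ≫ Spec.map (CommRingCat.ofHom j.toRingHom)
      rw [Category.assoc, pullback.lift_fst, Category.comp_id, ← Spec.map_comp]
      rfl
    obtain ⟨a, ha⟩ := exists_germ_pull (SepLimit.σ K) l π (SepLimit.σ E) hl G V (SepLimit.pt j) hsurj _ ht s
    refine ⟨((EtCoh.pull π).obj G).obj.map w.op (((EtCoh.pullPushAdj π).unit.app G).hom.app (op V) a), ?_⟩
    exact ((Scheme.pointSmallEtale (SepLimit.σ E)).toPresheafFiber_w_apply w _ _ _).trans ha
  haveI : Finite ((EtCoh.stalk (SepLimit.σ E)).obj ((EtCoh.pull π).obj G)) := by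
    refine Finite.of_surjective
      (fun a : G.obj.obj (op V) => (Scheme.pointSmallEtale (SepLimit.σ E)).toPresheafFiber _
        ((Scheme.pointSmallEtale (SepLimit.σ E)).fiber.map w (SepLimit.pt j')) ((EtCoh.pull π).obj G).obj
        (((EtCoh.pullPushAdj π).unit.app G).hom.app (op V) a)) fun s => ?_
    refine exists_germ_pull (SepLimit.σ K) l π (SepLimit.σ E) hl G V (SepLimit.pt j) hsurj _ ?_ s
    show (Spec.map (CommRingCat.ofHom j'.toRingHom) ≫
      pullback.lift (𝟙 (Spec (CommRingCat.of N))) (Spec.map (CommRingCat.ofHom (algebraMap E N))) _) ≫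
        pullback.fst _ _ = l ≫ Spec.map (CommRingCat.ofHom j.toRingHom)
    rw [Category.assoc, pullback.lift_fst, Category.comp_id, ← Spec.map_comp]
    rfl
  exact subsingleton_H_of_split (M := N) (j := j') q hE hP _ _ (Supp.isPrimaryTorsion_pull ℓ π hG)
    inferInstance rfl hsplit

/-- Cohomology of a sheaf with finite stalk. -/
theorem subsingleton_H_finite_of_const (q : ℕ)
    (h : ∀ (E : Type u) [Field E] [Algebra K E] [FiniteDimensional K E] [Algebra.IsSeparable K E],
      Subsingleton (EtCoh.H (Spec (CommRingCat.of E)) (EtCoh.const (Spec (CommRingCat.of E)) (ZMod ℓ)) q))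
    (G : EtCoh.Ab (Spec (CommRingCat.of K))) (hG : Dix.IsPrimaryTorsion ℓ G)
    (hfin : Finite ((EtCoh.stalk (SepLimit.σ K)).obj G)) :
    Subsingleton (EtCoh.H (Spec (CommRingCat.of K)) G q) := by
  classical
  let Pσ := Scheme.pointSmallEtale (SepLimit.σ K)
  haveI := Fintype.ofFinite ((EtCoh.stalk (SepLimit.σ K)).obj G)
  choose kt hkt using (Supp.isPrimaryTorsion_iff_stalks ℓ G).1 hG _ (SepLimit.σ K)
  let k := Finset.univ.sup kt
  have hexp : ℓ ^ k • 𝟙 G = 0 := eq_zero_of_σ _ fun t => (stalk_map_nsmul G _ t).trans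
    (TorsionClass.pow_smul_eq_zero_of_le ℓ (hkt t) (Finset.le_sup (Finset.mem_univ t)))
  choose Et iF iA iD iS jt _ at' hat using fun t : (EtCoh.stalk (SepLimit.σ K)).obj G =>
    SepLimit.exists_descent G ⊤ t (fun γ hγ W z z' a ha hz' => by
      have hγ1 : γ = 1 := AlgEquiv.ext fun x => hγ ⟨x, IntermediateField.mem_top⟩
      subst hγ1
      have : z' = z := CategoryTheory.Over.OverMorphism.ext (hz'.trans (by
        rw [show CommRingCat.ofHom (1 : SeparableClosure K ≃ₐ[K] SeparableClosure K).toAlgHom.toRingHom =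
          𝟙 (CommRingCat.of (SeparableClosure K)) from rfl, Spec.map_id]
        exact Category.id_comp _))
      rw [this, ha])
  let S : Set (SeparableClosure K) :=
    ⋃ t, (haveI := iD t; Set.range fun i => jt t (Module.finBasis K (Et t) i))
  haveI : Finite S := (Set.finite_iUnion fun t => Set.finite_range _).to_subtype
  let N := FiniteGaloisIntermediateField.adjoin K S
  have hmem : ∀ t x, jt t x ∈ N.toIntermediateField.toSubalgebra := fun t x => by
    haveI := iD t
    rw [← (Module.finBasis K (Et t)).sum_repr x, map_sum]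
    refine sum_mem fun i _ => ?_
    rw [map_smul]
    exact Subalgebra.smul_mem _ (FiniteGaloisIntermediateField.subset_adjoin K S
      (Set.mem_iUnion.2 ⟨t, i, rfl⟩)) _
  let j : N →ₐ[K] SeparableClosure K := N.toIntermediateField.val
  have hsurj : Function.Surjective (Pσ.toPresheafFiber (SepLimit.obj (K := K) N) (SepLimit.pt j) G.obj) := by
    intro t
    haveI := iD t
    haveI := iS t
    let χ : Et t →ₐ[K] N := (jt t).codRestrict _ (hmem t)
    refine ⟨G.obj.map (SepLimit.map χ).op (at' t), ?_⟩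
    refine (Pσ.toPresheafFiber_w_apply (SepLimit.map χ) _ G.obj _).trans ?_
    rw [SepLimit.map_pt]
    exact hat t
  haveI : Finite (G.obj.obj (op (SepLimit.obj (K := K) N))) :=
    @Finite.of_injective _ _ hfin _ (SepLimit.germ_injective G _ (SepLimit.pt j))
  haveI : Normal K N := IsGalois.to_normal
  let P : Sylow ℓ (N ≃ₐ[K] N) := default
  let E := IntermediateField.fixedField (P : Subgroup (N ≃ₐ[K] N))
  haveI : IsGalois E N := inferInstance
  have hP : IsPGroup ℓ (N ≃ₐ[E] N) :=
    P.isPGroup'.of_equiv ((MulEquiv.subgroupCongr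
      (IntermediateField.fixingSubgroup_fixedField (P : Subgroup (N ≃ₐ[K] N))).symm).trans
        (IntermediateField.fixingSubgroupEquiv E))
  let π := GalDual.fieldMap K E
  haveI := EtFound.pull_preservesFiniteLimits π
  haveI := subsingleton_H_pull q G hG N j hsurj E hP (h E)
  refine subsingleton_of_forall_eq 0 fun x => ?_
  have hdies : GalDual.Dies K E x :=
    (GalDual.dies_iff_Hpull E x).2 (Subsingleton.elim _ _)
  have h1 : ℓ ^ k • x = 0 := by
    rw [GalDual.nsmul_eq_comp, hexp, Abelian.Ext.mk₀_zero, Abelian.Ext.comp_zero]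
  have hindex : Module.finrank K E = (P : Subgroup (N ≃ₐ[K] N)).index := by
    rw [IntermediateField.finrank_eq_fixingSubgroup_index, IntermediateField.fixingSubgroup_fixedField]
  refine GalDual.eq_zero_of_coprime_nsmul h1 (hdies.finrank_nsmul E) ?_
  rw [hindex]
  exact (hℓ.out.coprime_iff_not_dvd.2 P.not_dvd_index).pow_left k

/-- `cd_ℓ K ≤ d` from the vanishing of `H^(d+1)(E, ℤ/ℓ)`. -/
theorem cohDimLEAt_of_const (d : ℕ)
    (h : ∀ (E : Type u) [Field E] [Algebra K E] [FiniteDimensional K E] [Algebra.IsSeparable K E],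
      Subsingleton (EtCoh.H (Spec (CommRingCat.of E)) (EtCoh.const (Spec (CommRingCat.of E)) (ZMod ℓ)) (d + 1))) :
    Dix.CohDimLEAt (Spec (CommRingCat.of K)) ℓ d := by
  suffices ∀ (m : ℕ) (F : EtCoh.Ab (Spec (CommRingCat.of K))), Dix.IsPrimaryTorsion ℓ F →
      Subsingleton (EtCoh.H (Spec (CommRingCat.of K)) F (m + (d + 1))) by
    intro F hF q hq
    obtain ⟨m, rfl⟩ : ∃ m, q = m + (d + 1) := ⟨q - (d + 1), by omega⟩
    exact this m F hF
  intro m
  induction m with
  | zero =>
    intro F hF
    rw [Nat.zero_add]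
    exact subsingleton_H_of_finite F hℓ.out.pos hF _ fun G hG hfin => subsingleton_H_finite_of_const _ h G hG hfin
  | succ m ih =>
    intro F hF
    rw [show m + 1 + (d + 1) = m + (d + 1) + 1 by omega]
    obtain ⟨-, h₃⟩ := TorsionClass.isPrimaryTorsion_coindSES ℓ hF
    have hid : (𝟙 (Spec (CommRingCat.of K))) = Spec.map (CommRingCat.ofHom (algebraMap K K)) :=
      (Spec.map_id _).symm
    have h₂ := SepAcyclic.subsingleton_H_pull_coind K (𝟙 _) hid ((EtCoh.pull (SepLimit.σ K)).obj F) (m + (d + 1))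
    refine ExtVanish.ext₁ (StalkVanish.coindSES_shortExact F) _ (m + (d + 1)) (ih _ h₃) ?_
    exact ExtVanish.ext_of_iso ((pullIdIso (Spec (CommRingCat.of K))).app (StalkVanish.coindSES F).X₂) _
      (m + (d + 1) + 1) h₂

/-- `cd_ℓ K ≤ 1` from the vanishing of `H²(E, ℤ/ℓ)`. -/
theorem cohDimLEAt_one
    (h : ∀ (E : Type u) [Field E] [Algebra K E] [FiniteDimensional K E] [Algebra.IsSeparable K E],
      Subsingleton (EtCoh.H (Spec (CommRingCat.of E)) (EtCoh.const (Spec (CommRingCat.of E)) (ZMod ℓ)) 2)) :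
    Dix.CohDimLEAt (Spec (CommRingCat.of K)) ℓ 1 :=
  cohDimLEAt_of_const 1 h

end Groth.Agent.CdField
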