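import Groth.Agent.CdField.Basic
import Groth.Agent.CdField.Transfer
import Groth.Agent.DixBrauer.BrauerC1
import Groth.Agent.DixBrauer.FieldH1
import Groth.Agent.DixBrauer.Kummer
import Groth.Agent.EtLC12.MuConst
import Groth.Agent.TsenLib.Basic
import Groth.Agent.S0103

/-! `cd_ℓ ≤ 1` for fields of transcendence degree one over an algebraically closed field. -/

set_option autoImplicit false
set_option backward.isDefEq.respectTransparency.types false

universe u

open CategoryTheory CategoryTheory.Limits AlgebraicGeometry Opposite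

namespace Groth.Agent.CdField

open Groth.Agent.CdLib

/-- `H²(E, ℤ/ℓ) = 0` for a `C₁` field `E` containing the `ℓ`-th roots of unity. -/
theorem subsingleton_H2_of_isCr_one (E : Type u) [Field E] (hE : Curves.IsCr E 1) (ℓ : ℕ) [hℓ : Fact ℓ.Prime]
    (hζ : (ℓ : E) ≠ 0 → ∃ ζ : E, IsPrimitiveRoot ζ ℓ) :
    Subsingleton (EtCoh.H (Spec (CommRingCat.of E)) (EtCoh.const (Spec (CommRingCat.of E)) (ZMod ℓ)) 2) := by
  let X := Spec (CommRingCat.of E)
  let e : Γ(X, ⊤) ≅ CommRingCat.of E := Scheme.ΓSpecIso (CommRingCat.of E)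
  by_cases h : (ℓ : E) = 0
  · haveI : CharP E ℓ := by
      exact (CharP.charP_iff_prime_eq_zero hℓ.out).2 h
    haveI : CharP Γ(X, ⊤) ℓ :=
      (RingHom.charP_iff e.inv.hom e.commRingCatIsoToRingEquiv.symm.injective ℓ).1 inferInstance
    exact S0103.result X ℓ 2 le_rfl
  · obtain ⟨z, hz⟩ := hζ h
    have hu : IsUnit (ℓ : Γ(X, ⊤)) := by
      have := (IsUnit.mk0 (ℓ : E) h).map e.inv.hom
      rwa [map_natCast] at this
    haveI : NeZero ℓ := ⟨hℓ.out.ne_zero⟩
    have hroot : Polynomial.aeval z (Polynomial.cyclotomic ℓ ℤ) = 0 := by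
      have := hz.isRoot_cyclotomic hℓ.out.pos
      rwa [← Polynomial.map_cyclotomic_int, Polynomial.IsRoot, Polynomial.eval_map] at this
    have hζ' : Polynomial.aeval (e.inv z) (Polynomial.cyclotomic ℓ ℤ) = 0 := by
      rw [show (e.inv z : Γ(X, ⊤)) = e.inv.hom.toIntAlgHom z from rfl, Polynomial.aeval_algHom_apply, hroot,
        map_zero]
    obtain ⟨i⟩ := EtLC12.MuConst.nonempty_mu_iso_const (X := X) (n := ℓ) hu (e.inv z) hζ'
    refine ExtVanish.ext_of_iso i _ 2 ?_
    haveI : Epi (EtCoh.powMap X ℓ) := S0108.result X ℓ hu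
    let T := ShortComplex.mk (EtCoh.muι X ℓ) (EtCoh.powMap X ℓ) (kernel.condition _)
    have hT : T.ShortExact := ShortComplex.ShortExact.mk'
      (ShortComplex.exact_of_f_is_kernel _ (kernelIsKernel _)) (inferInstanceAs (Mono (kernel.ι _))) this
    exact ExtVanish.ext₁ hT _ 1 (DixBrauer.FieldH1.subsingleton_H1_Gm E)
      (DixBrauer.BrauerC1.subsingleton_H2_Gm E hE)

/-- An algebraic extension of a field of transcendence degree one over an algebraically closed field
has `cd ≤ 1`. -/
theorem cohDimLEAt_one_of_isAlgClosed (F K : Type u) [Field F] [IsAlgClosed F] [Field K] [Algebra F K]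
    (ht : Algebra.trdeg F K = 1) (ℓ : ℕ) [hℓ : Fact ℓ.Prime] :
    Dix.CohDimLEAt (Spec (CommRingCat.of K)) ℓ 1 := by
  refine cohDimLEAt_one fun E _ _ _ _ => subsingleton_H2_of_isCr_one E
    (TsenLib.isCr_one_of_isCi (TsenLib.isCi_of_isAlgebraic (K := K)
      (TsenLib.tsen_lang (k := F) (by exact_mod_cast ht)))) ℓ fun h => ?_
  let f : F →+* E := (algebraMap K E).comp (algebraMap F K)
  haveI : NeZero (ℓ : F) := ⟨fun h0 => h (by rw [← map_natCast f, h0, map_zero])⟩
  obtain ⟨z, hz⟩ := HasEnoughRootsOfUnity.exists_primitiveRoot F ℓ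
  exact ⟨f z, hz.map_of_injective f.injective⟩

/-- A field of transcendence degree one over a separably closed field has `cd ≤ 1`. -/
theorem cohDimLEAt_one_of_isSepClosed (F K : Type u) [Field F] [IsSepClosed F] [Field K] [Algebra F K]
    (ht : Algebra.trdeg F K = 1) (ℓ : ℕ) [hℓ : Fact ℓ.Prime] :
    Dix.CohDimLEAt (Spec (CommRingCat.of K)) ℓ 1 := by
  let M := perfectClosure K (AlgebraicClosure K)
  let A := algebraicClosure F (AlgebraicClosure K)
  have hAM : ∀ x : AlgebraicClosure K, x ∈ A → x ∈ M := fun x hx => by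
    haveI : IsPurelyInseparable F A := inferInstance
    obtain ⟨n, y, hy⟩ := IsPurelyInseparable.pow_mem F (ringExpChar F) (⟨x, hx⟩ : A)
    haveI : ExpChar K (ringExpChar F) := expChar_of_injective_algebraMap (algebraMap F K).injective _
    refine (mem_perfectClosure_iff_pow_mem (ringExpChar F)).2 ⟨n, algebraMap F K y, ?_⟩
    rw [← IsScalarTower.algebraMap_apply]
    exact congrArg Subtype.val hy
  letI : Algebra A M := (show A →+* M from
    { toFun := fun x => ⟨x.1, hAM x.1 x.2⟩, map_one' := rfl, map_mul' := fun _ _ => rfl, map_zero' := rfl,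
      map_add' := fun _ _ => rfl }).toAlgebra
  haveI : IsScalarTower F A M := IsScalarTower.of_algebraMap_eq fun r => Subtype.ext rfl
  haveI : IsAlgClosed A := IsAlgClosure.isAlgClosed F
  have h1 : Algebra.trdeg F M = 1 := by
    rw [← ht, ← trdeg_add_eq F K (A := M), trdeg_eq_zero (R := K) (A := M), add_zero]
  have h2 : Algebra.trdeg A M = 1 := by
    rw [← h1, ← trdeg_add_eq F A (A := M), trdeg_eq_zero (R := F) (A := A), zero_add]
  exact cohDimLEAt_of_purelyInseparable K M (cohDimLEAt_one_of_isAlgClosed A M h2 ℓ)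

end Groth.Agent.CdField
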