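import Groth.Agent.CdLib.Leray
import Groth.Agent.CdLib.Devissage

/-! The Leray spectral sequence, vanishing in the other direction: if all `Ext^a(Z, R^b G)` with
`a + b = q` vanish then so does `Ext^q(LZ, G)`. -/

set_option autoImplicit false
set_option backward.isDefEq.respectTransparency.types false

universe w v v' u u' u₀

open CategoryTheory CategoryTheory.Limits CategoryTheory.Abelian

namespace Groth.Agent.CdField

open Groth.Agent.CdLib

section abstract

variable {A : Type u} [Category.{v} A] [Abelian A] [EnoughInjectives A] [HasExt.{w} A]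
  {B : Type u'} [Category.{v'} B] [Abelian B] [HasExt.{w} B]
  {L : B ⥤ A} {R : A ⥤ B} [R.Additive] [PreservesFiniteLimits L]

/-- If `Ext^(q+1)(Z, RG) = 0` and `Ext^a(Z, R^(b+1) G) = 0` for `a + b = q`, then
`Ext^(q+1)(LZ, G) = 0`. -/
theorem subsingleton_ext_left (adj : L ⊣ R) (Z : B) :
    ∀ (q : ℕ) (G : A), Subsingleton (Ext.{w} Z (R.obj G) (q + 1)) →
      (∀ a b : ℕ, a + b = q → Subsingleton (Ext.{w} Z ((R.rightDerived (b + 1)).obj G) a)) →
      Subsingleton (Ext.{w} (L.obj Z) G (q + 1)) := by
  have : R.IsRightAdjoint := adj.isRightAdjoint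
  have : PreservesFiniteLimits R := inferInstance
  intro q
  induction q with
  | zero =>
    intro G h hab
    let Q := Classical.arbitrary (InjectivePresentation G)
    have hS := Q.shortExact_shortComplex
    let S := Q.shortComplex
    have : Injective S.X₂ := Q.injective
    have : L.PreservesMonomorphisms := inferInstance
    have : Injective (R.obj S.X₂) := Injective.injective_of_adjoint adj _
    let := HasDerivedCategory.standard A
    let := HasDerivedCategory.standard B
    obtain ⟨δ, w₁, w₂, w₃, e₁, e₂, e₃⟩ := TriCat.exists_rightDerived_ses R hS 0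
    have : Epi δ := e₃.epi_f ((R.isZero_rightDerived_obj_injective_succ 0 S.X₂).eq_of_tgt _ _)
    let d : R.obj S.X₃ ⟶ (R.rightDerived 1).obj S.X₁ :=
      R.rightDerivedZeroIsoSelf.inv.app S.X₃ ≫ δ
    have hd : R.map S.g ≫ d = 0 := by
      rw [← Category.assoc, R.rightDerivedZeroIsoSelf.inv.naturality, Category.assoc, w₂, comp_zero]
    have hex : (ShortComplex.mk (R.map S.g) d hd).Exact := by
      let e : ShortComplex.mk ((R.rightDerived 0).map S.g) δ w₂ ≅ ShortComplex.mk (R.map S.g) d hd :=
        ShortComplex.isoMk (R.rightDerivedZeroIsoSelf.app S.X₂)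
          (R.rightDerivedZeroIsoSelf.app S.X₃) (Iso.refl _)
          (R.rightDerivedZeroIsoSelf.hom.naturality S.g).symm
          (((R.rightDerivedZeroIsoSelf.hom_inv_id_app_assoc _ _)).trans (Category.comp_id δ).symm)
      exact ShortComplex.exact_of_iso e e₂
    let t : R.obj S.X₂ ⟶ kernel d := kernel.lift d (R.map S.g) hd
    have : Epi t := (ShortComplex.exact_iff_epi_kernel_lift _).1 hex
    have wf : R.map S.f ≫ t = 0 := by
      rw [← cancel_mono (kernel.ι d), Category.assoc, kernel.lift_ι, ← R.map_comp, S.zero,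
        R.map_zero, zero_comp]
    have hR : (S.map R).Exact ∧ Mono (R.map S.f) := by
      have tf := (Functor.preservesFiniteLimits_tfae R).out 3 0
      exact tf.1 (show PreservesFiniteLimits R from inferInstance) S hS
    let S₁ : ShortComplex B := ShortComplex.mk (R.map S.f) t wf
    have hS₁ : S₁.ShortExact := by
      have hm : Mono S₁.f := hR.2
      refine ShortComplex.ShortExact.mk' ?_ hm ‹Epi t›
      let φ : S₁ ⟶ S.map R :=
        { τ₁ := 𝟙 _, τ₂ := 𝟙 _, τ₃ := kernel.ι d
          comm₁₂ := (Category.id_comp _).trans (Category.comp_id _).symm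
          comm₂₃ := (Category.id_comp _).trans (kernel.lift_ι _ _ _).symm }
      have : Mono φ.τ₃ := inferInstanceAs (Mono (kernel.ι d))
      have : IsIso φ.τ₂ := inferInstanceAs (IsIso (𝟙 _))
      have : Epi φ.τ₁ := inferInstanceAs (Epi (𝟙 _))
      exact (ShortComplex.exact_iff_of_epi_of_isIso_of_mono φ).2 hR.1
    let S₂ : ShortComplex B := ShortComplex.mk (kernel.ι d) d (kernel.condition d)
    have hS₂ : S₂.ShortExact := by
      have : Epi d := epi_comp _ _
      exact ShortComplex.ShortExact.mk' (ShortComplex.exact_of_f_is_kernel _ (kernelIsKernel d))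
        (inferInstanceAs (Mono (kernel.ι d))) this
    refine subsingleton_of_forall_eq 0 fun x => ?_
    obtain ⟨y, rfl⟩ := Ext.covariant_sequence_exact₁ _ hS x (Ext.eq_zero_of_injective _) rfl
    obtain ⟨ψ, rfl⟩ := (Ext.mk₀_bijective _ _).2 y
    have h0 := hab 0 0 rfl
    have hv : adj.homEquiv Z S.X₃ ψ ≫ d = 0 := (Ext.mk₀_bijective _ _).1 (h0.elim _ _)
    obtain ⟨φ, hφ⟩ := Ext.covariant_sequence_exact₃ Z hS₁ (Ext.mk₀ (kernel.lift d _ hv))
      (n₁ := 1) rfl (h.elim _ _)
    obtain ⟨φ, rfl⟩ := (Ext.mk₀_bijective _ _).2 φ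
    rw [Ext.mk₀_comp_mk₀] at hφ
    have hφ' : φ ≫ t = kernel.lift d _ hv := (Ext.mk₀_bijective _ _).1 hφ
    have hψ : ψ = (adj.homEquiv Z S.X₂).symm φ ≫ S.g := by
      rw [← adj.homEquiv_naturality_right_symm]
      apply (adj.homEquiv Z S.X₃).injective
      rw [Equiv.apply_symm_apply, ← kernel.lift_ι d _ hv, ← hφ', Category.assoc]
      exact congrArg (φ ≫ ·) (kernel.lift_ι _ _ _)
    subst hψ
    rw [← Ext.mk₀_comp_mk₀, Ext.comp_assoc_of_second_deg_zero]
    exact (congrArg (fun v => (Ext.mk₀ _).comp v _) hS.comp_extClass).trans (Ext.comp_zero _ _ _ _ _)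
  | succ q ih =>
    intro G h hab
    let Q := Classical.arbitrary (InjectivePresentation G)
    have hS := Q.shortExact_shortComplex
    let S := Q.shortComplex
    have : Injective S.X₂ := Q.injective
    have : L.PreservesMonomorphisms := inferInstance
    have : Injective (R.obj S.X₂) := Injective.injective_of_adjoint adj _
    let := HasDerivedCategory.standard A
    let := HasDerivedCategory.standard B
    obtain ⟨δ, w₁, w₂, w₃, e₁, e₂, e₃⟩ := TriCat.exists_rightDerived_ses R hS 0
    have : Epi δ := e₃.epi_f ((R.isZero_rightDerived_obj_injective_succ 0 S.X₂).eq_of_tgt _ _)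
    let d : R.obj S.X₃ ⟶ (R.rightDerived 1).obj S.X₁ :=
      R.rightDerivedZeroIsoSelf.inv.app S.X₃ ≫ δ
    have hd : R.map S.g ≫ d = 0 := by
      rw [← Category.assoc, R.rightDerivedZeroIsoSelf.inv.naturality, Category.assoc, w₂, comp_zero]
    have hex : (ShortComplex.mk (R.map S.g) d hd).Exact := by
      let e : ShortComplex.mk ((R.rightDerived 0).map S.g) δ w₂ ≅ ShortComplex.mk (R.map S.g) d hd :=
        ShortComplex.isoMk (R.rightDerivedZeroIsoSelf.app S.X₂)
          (R.rightDerivedZeroIsoSelf.app S.X₃) (Iso.refl _)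
          (R.rightDerivedZeroIsoSelf.hom.naturality S.g).symm
          (((R.rightDerivedZeroIsoSelf.hom_inv_id_app_assoc _ _)).trans (Category.comp_id δ).symm)
      exact ShortComplex.exact_of_iso e e₂
    let t : R.obj S.X₂ ⟶ kernel d := kernel.lift d (R.map S.g) hd
    have : Epi t := (ShortComplex.exact_iff_epi_kernel_lift _).1 hex
    have wf : R.map S.f ≫ t = 0 := by
      rw [← cancel_mono (kernel.ι d), Category.assoc, kernel.lift_ι, ← R.map_comp, S.zero,
        R.map_zero, zero_comp]
    have hR : (S.map R).Exact ∧ Mono (R.map S.f) := by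
      have tf := (Functor.preservesFiniteLimits_tfae R).out 3 0
      exact tf.1 (show PreservesFiniteLimits R from inferInstance) S hS
    let S₁ : ShortComplex B := ShortComplex.mk (R.map S.f) t wf
    have hS₁ : S₁.ShortExact := by
      have hm : Mono S₁.f := hR.2
      refine ShortComplex.ShortExact.mk' ?_ hm ‹Epi t›
      let φ : S₁ ⟶ S.map R :=
        { τ₁ := 𝟙 _, τ₂ := 𝟙 _, τ₃ := kernel.ι d
          comm₁₂ := (Category.id_comp _).trans (Category.comp_id _).symm
          comm₂₃ := (Category.id_comp _).trans (kernel.lift_ι _ _ _).symm }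
      have : Mono φ.τ₃ := inferInstanceAs (Mono (kernel.ι d))
      have : IsIso φ.τ₂ := inferInstanceAs (IsIso (𝟙 _))
      have : Epi φ.τ₁ := inferInstanceAs (Epi (𝟙 _))
      exact (ShortComplex.exact_iff_of_epi_of_isIso_of_mono φ).2 hR.1
    let S₂ : ShortComplex B := ShortComplex.mk (kernel.ι d) d (kernel.condition d)
    have hS₂ : S₂.ShortExact := by
      have : Epi d := epi_comp _ _
      exact ShortComplex.ShortExact.mk' (ShortComplex.exact_of_f_is_kernel _ (kernelIsKernel d))
        (inferInstanceAs (Mono (kernel.ι d))) this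
    have h3 : Subsingleton (Ext.{w} (L.obj Z) S.X₃ (q + 1)) := by
      refine ih S.X₃ ?_ fun a b hb => ?_
      · exact ExtVanish.ext₂ hS₂ Z (q + 1)
          (ExtVanish.ext₃ hS₁ Z (q + 1) (Ext.subsingleton_of_injective _ (R.obj S.X₂) _) h) (hab (q + 1) 0 rfl)
      · obtain ⟨δ', v₁, v₂, v₃, -, c₂, c₃⟩ := TriCat.exists_rightDerived_ses R hS (b + 1)
        have : Mono δ' := c₂.mono_g ((R.isZero_rightDerived_obj_injective_succ b S.X₂).eq_of_src _ _)
        have : Epi δ' := c₃.epi_f ((R.isZero_rightDerived_obj_injective_succ (b + 1) S.X₂).eq_of_tgt _ _)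
        have : IsIso δ' := isIso_of_mono_of_epi _
        exact ExtVanish.ext_of_iso (asIso δ').symm Z a (hab a (b + 1) (by omega))
    exact ExtVanish.ext₁ hS (L.obj Z) (q + 1) h3 (Ext.subsingleton_of_injective _ _ _)

end abstract

open AlgebraicGeometry

/-- Vanishing on the source from vanishing of the direct images on the target. -/
theorem subsingleton_H_of_push {X Y : Scheme.{u₀}} (f : Y ⟶ X) [PreservesFiniteLimits (EtCoh.pull f)]
    (G : EtCoh.Ab Y) (q : ℕ) (h : Subsingleton (EtCoh.H X ((EtCoh.push f).obj G) (q + 1)))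
    (hab : ∀ a b : ℕ, a + b = q → Subsingleton (EtCoh.H X ((EtCoh.Rpush f (b + 1)).obj G) a)) :
    Subsingleton (EtCoh.H Y G (q + 1)) := by
  have h1 := subsingleton_ext_left (EtCoh.pullPushAdj f) (EtCoh.const X ℤ) q G h hab
  refine subsingleton_of_forall_eq 0 fun x => ?_
  have h' : (Ext.mk₀ (EtCore.pullConst f ℤ).hom).comp x (zero_add (q + 1)) = 0 := h1.elim _ _
  have h'' := congrArg (fun y => (Ext.mk₀ (EtCore.pullConst f ℤ).inv).comp y (zero_add (q + 1))) h'
  simp only [Ext.mk₀_comp_mk₀_assoc, Iso.inv_hom_id, Ext.mk₀_id_comp, Ext.comp_zero] at h''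
  exact h''

end Groth.Agent.CdField
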