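import Groth.Agent.CdField.StrictLocal
import Groth.Agent.CdField.TorsionScheme
import Groth.Agent.S3491

/-! Strict localizations of points of an arbitrary scheme are algebraic over the residue fields. -/

set_option autoImplicit false
set_option backward.isDefEq.respectTransparency.types false

universe u

open CategoryTheory CategoryTheory.Limits AlgebraicGeometry Opposite

noncomputable section

namespace Groth.Agent.CdField

variable {X : Scheme.{u}}

/-- `cd_ℓ Frac(R/P) ≤ cd_ℓ κ(x)`. -/
theorem cohDimLEAt_frac_of_residueField {ℓ d : ℕ} {x y : X} (hxy : x ⤳ y)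
    (h : Dix.CohDimLEAt (Spec (X.residueField x)) ℓ d)
    (R : Type u) [CommRing R] [IsLocalRing R] [Algebra (X.presheaf.stalk y) R]
    [IsLocalHom (algebraMap (X.presheaf.stalk y) R)] [Hensel.IsStrictHenselization (X.presheaf.stalk y) R]
    (P : Ideal R) (hP : P ∈ ((RingHom.ker (Cyc.specMap y x hxy)).map (algebraMap (X.presheaf.stalk y) R)).minimalPrimes) :
    Dix.CohDimLEAt (Spec (CommRingCat.of (FractionRing (R ⧸ P)))) ℓ d := by
  haveI : (RingHom.ker (Cyc.specMap y x hxy)).IsPrime := RingHom.ker_isPrime _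
  let A := X.presheaf.stalk y
  let p : Ideal A := RingHom.ker (Cyc.specMap y x hxy)
  have hlike := Hensel.isHenzLike_of_isStrictHenselization A R
  haveI := hP.1.1
  haveI : HenselianLocalRing R := Hensel.IsStrictHenselization.henselian A
  have hsc := Hensel.IsStrictHenselization.isSepClosure (R := A) (S := R)
  haveI : IsSepClosed (IsLocalRing.ResidueField R) := hsc.sep_closed
  haveI : Algebra.IsSeparable (IsLocalRing.ResidueField A) (IsLocalRing.ResidueField R) := hsc.separable
  let L := FractionRing (R ⧸ P)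
  have hcomap := comap_of_mem_minimalPrimes hlike p P hP
  -- the field `κ(x)` maps to `L`
  letI : Algebra A (X.residueField x) := (Cyc.specMap y x hxy).toAlgebra
  have hker : ∀ a : A, algebraMap A L a = 0 ↔ Cyc.specMap y x hxy a = 0 := fun a => by
    rw [IsScalarTower.algebraMap_apply A (R ⧸ P) L, map_eq_zero_iff _ (IsFractionRing.injective (R ⧸ P) L),
      IsScalarTower.algebraMap_apply A R (R ⧸ P), Ideal.Quotient.algebraMap_eq, Ideal.Quotient.eq_zero_iff_mem,
      ← Ideal.mem_comap, hcomap]
    exact RingHom.mem_ker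
  let i : A ⧸ p →+* X.residueField x := RingHom.kerLift (Cyc.specMap y x hxy)
  letI : Algebra (A ⧸ p) (X.residueField x) := i.toAlgebra
  haveI : IsFractionRing (A ⧸ p) (X.residueField x) := by
    haveI : FaithfulSMul (A ⧸ p) (X.residueField x) :=
      (faithfulSMul_iff_algebraMap_injective _ _).2 (RingHom.kerLift_injective _)
    refine IsFractionRing.of_field _ _ fun z => ?_
    obtain ⟨a, b, hb, hab⟩ := exists_specMap_div hxy z
    refine ⟨Ideal.Quotient.mk p a, Ideal.Quotient.mk p b, ?_⟩
    show z = Cyc.specMap y x hxy a / Cyc.specMap y x hxy b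
    rw [← hab, mul_div_cancel_right₀ _ hb]
  let θ : A ⧸ p →+* L := Ideal.Quotient.lift p (algebraMap A L) fun a ha => (hker a).2 ha
  have hθ : Function.Injective θ :=
    RingHom.lift_injective_of_ker_le_ideal p _ fun a ha => (hker a).1 ha
  letI : Algebra (X.residueField x) L := (IsFractionRing.lift (K := X.residueField x) hθ).toAlgebra
  haveI : IsScalarTower A (X.residueField x) L := IsScalarTower.of_algebraMap_eq fun a =>
    (IsFractionRing.lift_algebraMap hθ (Ideal.Quotient.mk p a)).symm
  haveI : Algebra.IsAlgebraic (X.residueField x) L := by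
    refine ⟨fun z => ?_⟩
    obtain ⟨a, b, -, rfl⟩ := IsFractionRing.div_surjective (R ⧸ P) z
    obtain ⟨a, rfl⟩ := Ideal.Quotient.mk_surjective a
    obtain ⟨b, rfl⟩ := Ideal.Quotient.mk_surjective b
    have key := isAlgebraic_of_henzLike hlike (X.residueField x) L (IsScalarTower.toAlgHom A R L)
    rw [div_eq_mul_inv]
    exact (key a).mul (key b).inv
  exact cohDimLEAt_of_isAlgebraic (X.residueField x) L h

/-- Variant of `subsingleton_H_of_killed` needing only the primes dividing the exponent. -/
theorem subsingleton_H_of_killed' {d : ℕ} (G : EtCoh.Ab X) (N : ℕ) (hN : N ≠ 0)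
    (h : ∀ ℓ : ℕ, ℓ.Prime → ℓ ∣ N → Dix.CohDimLEAt X ℓ d) (hexp : N • 𝟙 G = 0) (q : ℕ) (hq : d < q) :
    Subsingleton (EtCoh.H X G q) := by
  refine subsingleton_of_forall_eq 0 fun x => ?_
  have hNx : N • x = 0 := by
    rw [GalDual.nsmul_eq_comp, hexp, Abelian.Ext.mk₀_zero, Abelian.Ext.comp_zero]
  have key : ∀ p : ℕ, p.Prime → p ∣ N → (N / p ^ N.factorization p) • x = 0 := by
    intro p hp hpN
    let a := N / p ^ N.factorization p
    let f : G ⟶ G := a • 𝟙 G
    have hI : p ^ N.factorization p • 𝟙 (Abelian.image f) = 0 := by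
      rw [← cancel_epi (Abelian.factorThruImage f), ← cancel_mono (Abelian.image.ι f), Preadditive.comp_nsmul,
        Category.comp_id, Preadditive.nsmul_comp, Abelian.image.fac, comp_zero, zero_comp, smul_smul,
        Nat.ordProj_mul_ordCompl_eq_self]
      exact hexp
    haveI := h p hp hpN _ (isPrimaryTorsion_of_nsmul_eq_zero p _ hI) q hq
    rw [GalDual.nsmul_eq_comp, show (N / p ^ N.factorization p) • 𝟙 G = f from rfl, ← Abelian.image.fac f,
      ← Abelian.Ext.mk₀_comp_mk₀, ← Abelian.Ext.comp_assoc_of_third_deg_zero,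
      show x.comp (Abelian.Ext.mk₀ (Abelian.factorThruImage f)) (add_zero q) = 0 from
        Subsingleton.elim (α := EtCoh.H X (Abelian.image f) q) _ _, Abelian.Ext.zero_comp]
  refine AddMonoid.addOrderOf_eq_one_iff.1 (Nat.eq_one_iff_not_exists_prime_dvd.2 fun p hp hdvd => ?_)
  have hpN : p ∣ N := hdvd.trans (addOrderOf_dvd_of_nsmul_eq_zero hNx)
  exact Nat.not_dvd_ordCompl hp hN (hdvd.trans (addOrderOf_dvd_of_nsmul_eq_zero (key p hp hpN)))

/-- No chains of length two in dimension one. -/
theorem no_chain (hdim : topologicalKrullDim X ≤ 1) {a b c : X} (hab : a ⤳ b) (hbc : b ⤳ c) (h₁ : a ≠ b)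
    (h₂ : b ≠ c) : False := by
  have hcb : c < b := lt_of_le_not_ge (show c ≤ b from hbc)
    fun h => h₂ (DimFormula.eq_of_specializes_of_specializes hbc h)
  have hba : b < a := lt_of_le_not_ge (show b ≤ a from hab)
    fun h => h₁ (DimFormula.eq_of_specializes_of_specializes hab h)
  have h2 : ((2 : ℕ) : WithBot ℕ∞) ≤ Order.krullDim (X : Type u) := by
    refine le_trans (le_of_eq ?_) (Order.LTSeries.length_le_krullDim
      (((RelSeries.singleton _ c).snoc b hcb).snoc a (by simpa using hba)))
    simp
  rw [show topologicalKrullDim (X : Type u) = Order.krullDim (X : Type u) from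
    Order.krullDim_eq_of_orderIso irreducibleSetEquivPoints] at hdim
  have h3 : ((2 : ℕ) : WithBot ℕ∞) ≤ ((1 : ℕ) : WithBot ℕ∞) := h2.trans (by exact_mod_cast hdim)
  have : (2 : ℕ) ≤ 1 := by exact_mod_cast h3
  omega

/-- `cd_ℓ X ≤ 2` for a scheme of dimension one with separably closed residue fields at the closed points
and `cd_ℓ ≤ 1` at the maximal points. -/
theorem cohDimLEAt_curve [IsNoetherian X] (ℓ : ℕ) (hℓ : ℓ.Prime) (hdim : topologicalKrullDim X ≤ 1)
    (hcd : ∀ x : X, closure {x} ∈ irreducibleComponents (X : Type u) →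
      Dix.CohDimLEAt (Spec (X.residueField x)) ℓ 1)
    (hcl : ∀ x : X, IsClosed ({x} : Set X) → IsSepClosed (X.residueField x)) : Dix.CohDimLEAt X ℓ 2 := by
  classical
  let φ : X → ℕ := fun x => if IsClosed ({x} : Set X) then 0 else 2
  have hmax : ∀ x : X, ¬ IsClosed ({x} : Set X) → closure {x} ∈ irreducibleComponents (X : Type u) := by
    intro x hx
    refine ⟨isIrreducible_singleton.closure, fun T hT hle => ?_⟩
    have hcT : IsIrreducible (closure T) := hT.closure
    obtain ⟨g, hg⟩ : ∃ g, IsGenericPoint g (closure T) := ⟨_, hcT.isGenericPoint_genericPoint isClosed_closure⟩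
    have hgx : g ⤳ x := hg.specializes (subset_closure (hle (subset_closure rfl)))
    by_cases heq : g = x
    · subst heq
      exact subset_closure.trans hg.def.ge
    exfalso
    obtain ⟨y, hy, hne⟩ : ∃ y, x ⤳ y ∧ y ≠ x := by
      by_contra hcon
      refine hx (closure_subset_iff_isClosed.1 fun y hy => ?_)
      exact by_contra fun hne => hcon ⟨y, specializes_iff_mem_closure.2 hy, hne⟩
    exact no_chain hdim hgx hy (fun h => heq h) (fun h => hne h.symm)
  intro F hF q hq
  refine Groth.Agent.S3491.result X ℓ hℓ φ (fun x => ?_) (fun x y hxy hne R => ?_) F hF q fun x _ => ?_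
  · by_cases hx : IsClosed ({x} : Set X)
    · simp only [φ, if_pos hx]
      haveI := hcl x hx
      exact cohDimLEAt_zero (X.residueField x) ℓ
    · simp only [φ, if_neg hx]
      intro G hG m hm
      exact hcd x (hmax x hx) G hG m (by omega)
  · intro _ _ _ _ _ P hP
    have hx : ¬ IsClosed ({x} : Set X) := fun h => hne (Set.mem_singleton_iff.1 (hxy.mem_closed h rfl)).symm
    have hy : IsClosed ({y} : Set X) := by
      by_contra hy
      obtain ⟨z, hz, hzy⟩ : ∃ z, y ⤳ z ∧ z ≠ y := by
        by_contra hcon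
        refine hy (closure_subset_iff_isClosed.1 fun z hz => ?_)
        exact by_contra fun hne => hcon ⟨z, specializes_iff_mem_closure.2 hz, hne⟩
      exact no_chain hdim hxy hz hne (fun h => hzy h.symm)
    refine ⟨1, ?_, cohDimLEAt_frac_of_residueField hxy (hcd x (hmax x hx)) R P hP⟩
    simp only [φ, if_pos hy, if_neg hx]
    omega
  · simp only [φ]
    split_ifs <;> omega

end Groth.Agent.CdField
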