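import Groth.Agent.CdLib.SepLimit
import Groth.Agent.CdLib.Supp
import Groth.Agent.CdLib.LevelMap
import Groth.Agent.EtFound.Detect
import Groth.Agent.EtFound.AbRecollement
import Groth.Agent.EtLC12.QcqsAcyclic
import Mathlib.CategoryTheory.Sites.Point.Skyscraper
import Mathlib.GroupTheory.FiniteAbelian.Basic

/-! A torsion sheaf on the spectrum of a field is the filtered colimit of subsheaves with finite
stalks. -/

set_option autoImplicit false
set_option backward.isDefEq.respectTransparency.types false

universe u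

open CategoryTheory CategoryTheory.Limits AlgebraicGeometry Opposite

namespace Groth.Agent.CdField

open Groth.Agent.EtFound Groth.Agent.CdLib

variable {K : Type u} [Field K]

/-- A morphism which is an isomorphism on the stalk at the separable closure is an isomorphism. -/
theorem isIso_of_σ {F G : EtCoh.Ab (Spec (CommRingCat.of K))} (a : F ⟶ G)
    (h : IsIso ((EtCoh.stalk (SepLimit.σ K)).map a)) : IsIso a := by
  refine EtFound.isIso_of_stalks a fun Ω _ _ ξ => ?_
  obtain ⟨g, rfl⟩ := Spec.map_surjective (R := CommRingCat.of K) (S := CommRingCat.of Ω) ξ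
  letI : Algebra K Ω := g.hom.toAlgebra
  let l : SeparableClosure K →ₐ[K] Ω := IsSepClosed.lift
  have hl : Spec.map (CommRingCat.ofHom l.toRingHom) ≫ SepLimit.σ K = Spec.map g := by
    rw [← Spec.map_comp]
    exact congrArg Spec.map (CommRingCat.hom_ext l.comp_algebraMap)
  have e := stalkExtIso AddCommGrpCat.{u + 1} (SepLimit.σ K) (Spec.map (CommRingCat.ofHom l.toRingHom))
  rw [← hl]
  exact (ConcreteCategory.isIso_iff_bijective _).1 ((NatIso.isIso_map_iff e a).1 h)

instance finite_fiber (U : (Spec (CommRingCat.of K)).Etale) [IsAffine U.left] :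
    Finite ((Scheme.pointSmallEtale (SepLimit.σ K)).fiber.obj U) := by
  let Ks := SeparableClosure K
  let f : U.left ⟶ Spec (CommRingCat.of K) := U.hom
  haveI : AlgebraicGeometry.Etale f := U.prop
  let A : CommRingCat.{u} := Γ(U.left, ⊤)
  let e : U.left ≅ Spec A := U.left.isoSpec
  obtain ⟨φ, hφ⟩ := Spec.map_surjective (R := CommRingCat.of K) (S := A) (e.inv ≫ f)
  letI : Algebra K A := φ.hom.toAlgebra
  haveI : Algebra.Etale K A := by
    have h : AlgebraicGeometry.Etale (Spec.map φ) := by rw [hφ]; infer_instance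
    exact RingHom.etale_algebraMap.1 ((HasRingHomProperty.Spec_iff (P := @AlgebraicGeometry.Etale)).1 h)
  haveI : Module.Finite K A := Algebra.FormallyUnramified.finite_of_free K A
  choose ψ hψ using fun v : (Scheme.pointSmallEtale (SepLimit.σ K)).fiber.obj U =>
    Spec.map_surjective (R := A) (S := CommRingCat.of Ks)
      ((v.left : Spec (CommRingCat.of Ks) ⟶ U.left) ≫ e.hom)
  have hc : ∀ v, φ ≫ ψ v = CommRingCat.ofHom (algebraMap K Ks) := fun v => by
    apply Spec.map_injective
    rw [Spec.map_comp, hψ, hφ, Category.assoc]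
    exact (congrArg ((v.left : Spec (CommRingCat.of Ks) ⟶ U.left) ≫ ·) (e.hom_inv_id_assoc f)).trans
      (CategoryTheory.Over.w v)
  refine Finite.of_injective (fun v => ({ (ψ v).hom with commutes' := fun r => congr(($(hc v)).hom r) } :
    A →ₐ[K] Ks)) fun v w hvw => ?_
  have h : ψ v = ψ w := CommRingCat.hom_ext (congrArg AlgHom.toRingHom hvw)
  apply CategoryTheory.Over.OverMorphism.ext
  exact (cancel_mono e.hom).1 ((hψ v).symm.trans ((congrArg Spec.map h).trans (hψ w)))

variable (F : EtCoh.Ab (Spec (CommRingCat.of K)))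

/-- The stalk. -/
abbrev St : Type (u + 1) := ↥((EtCoh.stalk (SepLimit.σ K)).obj F)

/-- The subgroup generated by the conjugates of finitely many elements of the stalk. -/
noncomputable def H (S : Finset (St F)) : AddSubgroup (St F) :=
  AddSubgroup.closure (⋃ t ∈ S, Set.range fun v =>
    (Scheme.pointSmallEtale (SepLimit.σ K)).toPresheafFiber _ v F.obj
      (LevelMap.exists_affine_rep F (SepLimit.σ K) t).choose_spec.choose_spec.choose_spec.choose)

theorem H_mono {S T : Finset (St F)} (h : S ⊆ T) : H F S ≤ H F T :=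
  AddSubgroup.closure_mono (Set.biUnion_subset_biUnion_left fun _ ht => h ht)

theorem H_fg (S : Finset (St F)) : (H F S).FG := by
  refine (AddSubgroup.fg_iff _).2 ⟨_, rfl, Set.Finite.biUnion S.finite_toSet fun t _ => ?_⟩
  haveI := (LevelMap.exists_affine_rep F (SepLimit.σ K) t).choose_spec.choose
  exact Set.finite_range _

/-- The morphism to the skyscraper of the quotient. -/
noncomputable def η (S : Finset (St F)) :
    F ⟶ (Scheme.pointSmallEtale (SepLimit.σ K)).skyscraperSheaf (AddCommGrpCat.of (St F ⧸ H F S)) :=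
  ((Scheme.pointSmallEtale (SepLimit.σ K)).skyscraperSheafAdjunction.homEquiv F _)
    (AddCommGrpCat.ofHom (QuotientAddGroup.mk' (H F S)))

theorem η_counit (S : Finset (St F)) :
    (EtCoh.stalk (SepLimit.σ K)).map (η F S) ≫
      (Scheme.pointSmallEtale (SepLimit.σ K)).skyscraperSheafAdjunction.counit.app _ =
      AddCommGrpCat.ofHom (QuotientAddGroup.mk' (H F S)) :=
  ((Scheme.pointSmallEtale (SepLimit.σ K)).skyscraperSheafAdjunction.homEquiv_counit _ _ _).symm.trans
    (Equiv.symm_apply_apply _ _)

theorem η_comp {S T : Finset (St F)} (h : S ⊆ T) :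
    η F S ≫ (Scheme.pointSmallEtale (SepLimit.σ K)).skyscraperSheafFunctor.map
      (AddCommGrpCat.ofHom (QuotientAddGroup.map (H F S) (H F T) (AddMonoidHom.id _) (H_mono F h))) =
      η F T := by
  rw [η, η, ← Adjunction.homEquiv_naturality_right]
  rfl

/-- The subsheaf of sections with germs in the subgroup. -/
noncomputable abbrev G (S : Finset (St F)) : EtCoh.Ab (Spec (CommRingCat.of K)) := kernel (η F S)

theorem G_stalk_mem (S : Finset (St F)) (g : (EtCoh.stalk (SepLimit.σ K)).obj (G F S)) :
    (EtCoh.stalk (SepLimit.σ K)).map (kernel.ι (η F S)) g ∈ H F S := by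
  rw [← QuotientAddGroup.eq_zero_iff]
  have h1 := ConcreteCategory.congr_hom (η_counit F S) ((EtCoh.stalk (SepLimit.σ K)).map (kernel.ι (η F S)) g)
  refine h1.symm.trans ?_
  rw [← ConcreteCategory.comp_apply, ← Category.assoc, ← Functor.map_comp, kernel.condition, Functor.map_zero,
    zero_comp]
  rfl

theorem exists_G_stalk (S : Finset (St F)) (U : (Spec (CommRingCat.of K)).Etale)
    (v₀ : (Scheme.pointSmallEtale (SepLimit.σ K)).fiber.obj U) (s : F.obj.obj (op U))
    (h : ∀ v, (Scheme.pointSmallEtale (SepLimit.σ K)).toPresheafFiber U v F.obj s ∈ H F S) :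
    ∃ g : (EtCoh.stalk (SepLimit.σ K)).obj (G F S),
      (EtCoh.stalk (SepLimit.σ K)).map (kernel.ι (η F S)) g =
        (Scheme.pointSmallEtale (SepLimit.σ K)).toPresheafFiber U v₀ F.obj s := by
  let P := Scheme.pointSmallEtale (SepLimit.σ K)
  have h0 : (η F S).hom.app (op U) s = 0 := by
    refine Concrete.isLimit_ext _ (productIsProduct fun _ : P.fiber.obj U => AddCommGrpCat.of (St F ⧸ H F S))
      _ _ ?_
    rintro ⟨v⟩
    refine Eq.trans ?_ (map_zero _).symm
    have h1 := ConcreteCategory.congr_hom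
      (P.skyscraperPresheafHomEquiv_app_π (AddCommGrpCat.ofHom (QuotientAddGroup.mk' (H F S))) U v) s
    refine Eq.trans ?_ ((QuotientAddGroup.eq_zero_iff _).2 (h v))
    refine Eq.trans ?_ h1
    have hη : (η F S).hom = P.skyscraperPresheafHomEquiv (AddCommGrpCat.ofHom (QuotientAddGroup.mk' (H F S))) :=
      P.skyscraperSheafAdjunction_homEquiv_apply_hom _
    rw [hη]
    rfl
  have hex := (ShortComplex.ab_exact_iff _).1
    ((ShortComplex.exact_of_f_is_kernel (ShortComplex.mk _ _ (kernel.condition (η F S)))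
      (kernelIsKernel _)).map (EtCoh.stalk (SepLimit.σ K)))
  refine hex (P.toPresheafFiber U v₀ F.obj s) ?_
  refine (P.toPresheafFiber_naturality_apply (η F S).hom U v₀ s).trans ?_
  rw [h0]
  exact map_zero _

theorem finite_stalk_G {ℓ : ℕ} (hℓ : 0 < ℓ) (hF : Dix.IsPrimaryTorsion ℓ F) (S : Finset (St F)) :
    Finite ((EtCoh.stalk (SepLimit.σ K)).obj (G F S)) := by
  haveI : AddGroup.FG (H F S) := (AddGroup.fg_iff_addSubgroup_fg _).2 (H_fg F S)
  haveI : Finite (H F S) := AddCommGroup.finite_of_fg_isAddTorsion _ fun t => by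
    obtain ⟨k, hk⟩ := (Supp.isPrimaryTorsion_iff_stalks ℓ F).1 hF _ (SepLimit.σ K) t.1
    exact isOfFinAddOrder_iff_nsmul_eq_zero.2 ⟨ℓ ^ k, pow_pos hℓ k, Subtype.ext hk⟩
  refine Finite.of_injective (fun g => (⟨_, G_stalk_mem F S g⟩ : H F S)) fun a b hab => ?_
  exact (AddCommGrpCat.mono_iff_injective ((EtCoh.stalk (SepLimit.σ K)).map (kernel.ι (η F S)))).1
    inferInstance (congrArg Subtype.val hab)

/-- The system of subsheaves. -/
noncomputable def diag : Finset (St F) ⥤ EtCoh.Ab (Spec (CommRingCat.of K)) where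
  obj S := G F S
  map {S T} h := kernel.lift _ (kernel.ι (η F S))
    (by rw [← η_comp F (leOfHom h), ← Category.assoc, kernel.condition, zero_comp])
  map_id S := by rw [← cancel_mono (kernel.ι (η F S)), kernel.lift_ι, Category.id_comp]
  map_comp {S T R} f g := by
    rw [← cancel_mono (kernel.ι (η F R)), kernel.lift_ι, Category.assoc, kernel.lift_ι, kernel.lift_ι]

/-- The cocone to the sheaf. -/
noncomputable def cocone : Cocone (diag F) where
  pt := F
  ι :=
    { app := fun S => kernel.ι (η F S)
      naturality := fun S T h => by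
        change kernel.lift _ (kernel.ι (η F S)) _ ≫ kernel.ι (η F T) = kernel.ι (η F S) ≫ 𝟙 F
        rw [kernel.lift_ι, Category.comp_id] }

instance isFiltered_finset : IsFiltered (Finset (St F)) := by
  classical
  exact inferInstance

theorem isIso_desc : IsIso (colimit.desc (diag F) (cocone F)) := by
  classical
  refine isIso_of_σ _ ((ConcreteCategory.isIso_iff_bijective _).2 ⟨?_, fun t => ?_⟩)
  · refine (injective_iff_map_eq_zero _).2 fun z hz => ?_
    obtain ⟨S, a, rfl⟩ := Concrete.isColimit_exists_rep _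
      (isColimitOfPreserves (EtCoh.stalk (SepLimit.σ K)) (colimit.isColimit (diag F))) z
    have h : (EtCoh.stalk (SepLimit.σ K)).map (kernel.ι (η F S)) a = 0 := by
      refine Eq.trans ?_ hz
      change _ = (EtCoh.stalk (SepLimit.σ K)).map (colimit.desc (diag F) (cocone F))
        ((EtCoh.stalk (SepLimit.σ K)).map (colimit.ι (diag F) S) a)
      rw [← ConcreteCategory.comp_apply, ← Functor.map_comp, colimit.ι_desc]
      rfl
    have ha : a = 0 := (AddCommGrpCat.mono_iff_injective _).1
      (inferInstance : Mono ((EtCoh.stalk (SepLimit.σ K)).map (kernel.ι (η F S)))) (h.trans (map_zero _).symm)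
    rw [ha, map_zero]
  · have hrep := (LevelMap.exists_affine_rep F (SepLimit.σ K) t).choose_spec.choose_spec.choose_spec.choose_spec
    obtain ⟨g, hg⟩ := exists_G_stalk F {t} _
      (LevelMap.exists_affine_rep F (SepLimit.σ K) t).choose_spec.choose_spec.choose
      (LevelMap.exists_affine_rep F (SepLimit.σ K) t).choose_spec.choose_spec.choose_spec.choose
      fun v => AddSubgroup.subset_closure (Set.mem_biUnion (Finset.mem_singleton_self t) ⟨v, rfl⟩)
    refine ⟨(EtCoh.stalk (SepLimit.σ K)).map (colimit.ι (diag F) {t}) g, ?_⟩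
    rw [← ConcreteCategory.comp_apply, ← Functor.map_comp, colimit.ι_desc]
    exact hg.trans hrep

/-- Vanishing of cohomology follows from that for sheaves with finite stalk. -/
theorem subsingleton_H_of_finite {ℓ : ℕ} (hℓ : 0 < ℓ) (hF : Dix.IsPrimaryTorsion ℓ F) (q : ℕ)
    (h : ∀ G : EtCoh.Ab (Spec (CommRingCat.of K)), Dix.IsPrimaryTorsion ℓ G →
      Finite ((EtCoh.stalk (SepLimit.σ K)).obj G) → Subsingleton (EtCoh.H (Spec (CommRingCat.of K)) G q)) :
    Subsingleton (EtCoh.H (Spec (CommRingCat.of K)) F q) := by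
  haveI := EtLC12.QcqsAcyclic.preservesColimitsOfShape_HF (Spec (CommRingCat.of K)) q (Finset (St F))
  haveI := isIso_desc F
  let X := Spec (CommRingCat.of K)
  have h0 : ∀ z : (EtCoh.HF X q).obj (colimit (diag F)), z = 0 := fun z => by
    obtain ⟨S, a, rfl⟩ := Concrete.isColimit_exists_rep _
      (isColimitOfPreserves (EtCoh.HF X q) (colimit.isColimit (diag F))) z
    haveI : Subsingleton ((EtCoh.HF X q).obj ((diag F).obj S)) :=
      h _ (@Supp.isPrimaryTorsion_of_mono _ ℓ _ _ (kernel.ι (η F S)) (inferInstanceAs (Mono (kernel.ι (η F S)))) hF)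
        (finite_stalk_G F hℓ hF S)
    exact (congrArg _ (Subsingleton.elim (α := (EtCoh.HF X q).obj ((diag F).obj S)) a 0)).trans (map_zero _)
  haveI : Subsingleton ((EtCoh.HF X q).obj (colimit (diag F))) := subsingleton_of_forall_eq 0 h0
  exact (((EtCoh.HF X q).mapIso (asIso (colimit.desc (diag F) (cocone F)))).addCommGroupIsoToAddEquiv).symm.injective.subsingleton

end Groth.Agent.CdField
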