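import Groth.Agent.CdField.FinGen
import Groth.Agent.CdLib.Devissage
import Groth.Agent.EtFound.ConstStalk
import Groth.Prelude.Def_EtCore
import Mathlib.GroupTheory.PGroup
import Mathlib.FieldTheory.Galois.Basic

/-! Sheaves with finite stalk split by an `ℓ`-extension have a filtration by constant sheaves
`ℤ/ℓ`. -/

set_option autoImplicit false
set_option backward.isDefEq.respectTransparency.types false

universe u

open CategoryTheory CategoryTheory.Limits AlgebraicGeometry Opposite
open scoped ZeroObject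

namespace Groth.Agent.CdField

open Groth.Agent.EtFound Groth.Agent.CdLib

variable {E : Type u} [Field E]

local notation "Pσ" => Scheme.pointSmallEtale (SepLimit.σ E)

/-- A sheaf with zero stalk at the separable closure is zero. -/
theorem isZero_of_σ (G : EtCoh.Ab (Spec (CommRingCat.of E)))
    (h : Subsingleton ((EtCoh.stalk (SepLimit.σ E)).obj G)) : IsZero G := by
  haveI := @AddCommGrpCat.isZero_of_subsingleton _ h
  have : IsIso (0 : (0 : EtCoh.Ab (Spec (CommRingCat.of E))) ⟶ G) := by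
    refine isIso_of_σ _ (IsZero.isIso ?_ (AddCommGrpCat.isZero_of_subsingleton _) _)
    exact (EtCoh.stalk (SepLimit.σ E)).map_isZero (isZero_zero _)
  exact (isZero_zero _).of_iso (asIso (0 : (0 : EtCoh.Ab (Spec (CommRingCat.of E))) ⟶ G)).symm

/-- Monomorphisms are detected at the separable closure. -/
theorem mono_of_σ {F G : EtCoh.Ab (Spec (CommRingCat.of E))} (a : F ⟶ G)
    (h : Function.Injective ((EtCoh.stalk (SepLimit.σ E)).map a)) : Mono a := by
  refine Preadditive.mono_of_kernel_zero (IsZero.eq_of_src (isZero_of_σ _ ⟨fun x y => ?_⟩) _ _)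
  have hι := (AddCommGrpCat.mono_iff_injective ((EtCoh.stalk (SepLimit.σ E)).map (kernel.ι a))).1 inferInstance
  refine hι (h ?_)
  rw [← ConcreteCategory.comp_apply, ← ConcreteCategory.comp_apply, ← Functor.map_comp, kernel.condition,
    Functor.map_zero]
  rfl

/-- An automorphism of the separable closure moves the points. -/
noncomputable def moveFib (γ : SeparableClosure E ≃ₐ[E] SeparableClosure E) {U : (Spec (CommRingCat.of E)).Etale}
    (z : (Pσ).fiber.obj U) : (Pσ).fiber.obj U :=
  CategoryTheory.Over.homMk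
    (Spec.map (CommRingCat.ofHom γ.toAlgHom.toRingHom) ≫ (z.left : Spec (CommRingCat.of (SeparableClosure E)) ⟶ U.left))
    (by
      refine (Category.assoc _ _ _).trans ((congrArg (_ ≫ ·) (CategoryTheory.Over.w z)).trans ?_)
      change Spec.map _ ≫ Spec.map _ = Spec.map _
      rw [← Spec.map_comp]
      exact congrArg Spec.map (CommRingCat.hom_ext γ.toAlgHom.comp_algebraMap))

/-- The action on the stalk. -/
noncomputable def act (γ : SeparableClosure E ≃ₐ[E] SeparableClosure E) (G : EtCoh.Ab (Spec (CommRingCat.of E))) :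
    (EtCoh.stalk (SepLimit.σ E)).obj G ⟶ (EtCoh.stalk (SepLimit.σ E)).obj G :=
  (Pσ).presheafFiberDesc (fun U z => (Pσ).toPresheafFiber U (moveFib γ z) G.obj) (fun {U V} f z => by
    have h : (Pσ).fiber.map f (moveFib γ z) = moveFib γ ((Pσ).fiber.map f z) :=
      CategoryTheory.Over.OverMorphism.ext (Category.assoc _ _ _)
    refine ((Pσ).toPresheafFiber_w f (moveFib γ z) G.obj).trans ?_
    rw [h])

theorem act_germ (γ : SeparableClosure E ≃ₐ[E] SeparableClosure E) (G : EtCoh.Ab (Spec (CommRingCat.of E)))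
    {U : (Spec (CommRingCat.of E)).Etale} (z : (Pσ).fiber.obj U) (a : G.obj.obj (op U)) :
    act γ G ((Pσ).toPresheafFiber U z G.obj a) = (Pσ).toPresheafFiber U (moveFib γ z) G.obj a :=
  ConcreteCategory.congr_hom (GrothendieckTopology.Point.toPresheafFiber_presheafFiberDesc _ _ _ U z) a

variable (G : EtCoh.Ab (Spec (CommRingCat.of E)))
  (M : Type u) [Field M] [Algebra E M] [FiniteDimensional E M] [IsGalois E M]
  (j : M →ₐ[E] SeparableClosure E)

/-- All elements of the stalk come from the sections over `M`. -/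
def Split : Prop :=
  ∀ t : (EtCoh.stalk (SepLimit.σ E)).obj G, ∃ a : G.obj.obj (op (SepLimit.obj M)),
    (Pσ).toPresheafFiber (SepLimit.obj M) (SepLimit.pt j) G.obj a = t

theorem Split.of_epi {Q : EtCoh.Ab (Spec (CommRingCat.of E))} (g : G ⟶ Q) [Epi g] (h : Split G M j) :
    Split Q M j := fun t => by
  obtain ⟨s, rfl⟩ := (AddCommGrpCat.epi_iff_surjective ((EtCoh.stalk (SepLimit.σ E)).map g)).1 inferInstance t
  obtain ⟨a, rfl⟩ := h s
  exact ⟨g.hom.app _ a, ((Pσ).toPresheafFiber_naturality_apply g.hom _ _ a).symm⟩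

variable {G M j} {ℓ : ℕ} [hℓ : Fact ℓ.Prime]

/-- A non-zero sheaf split by an `ℓ`-extension has a non-zero global section killed by `ℓ`. -/
theorem Split.exists_section (h : Split G M j) (hM : IsPGroup ℓ (M ≃ₐ[E] M))
    (hG : Dix.IsPrimaryTorsion ℓ G) [Finite ((EtCoh.stalk (SepLimit.σ E)).obj G)]
    [Nontrivial ((EtCoh.stalk (SepLimit.σ E)).obj G)] :
    ∃ (g : G.obj.obj (op (EtCoh.top (Spec (CommRingCat.of E)))))
      (p : (Pσ).fiber.obj (EtCoh.top (Spec (CommRingCat.of E)))),
      addOrderOf ((Pσ).toPresheafFiber _ p G.obj g) = ℓ ∧ ℓ • g = 0 := by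
  classical
  let A := G.obj.obj (op (SepLimit.obj (K := E) M))
  let germ := (Pσ).toPresheafFiber (SepLimit.obj M) (SepLimit.pt j) G.obj
  haveI : Subsingleton (SepLimit.obj (K := E) M).left := inferInstance
  have hinj : Function.Injective germ := SepLimit.germ_injective G _ (SepLimit.pt j)
  haveI : Finite ↑((Pσ).presheafFiber.obj G.obj) := ‹Finite ((EtCoh.stalk (SepLimit.σ E)).obj G)›
  haveI : Finite A := Finite.of_injective _ hinj
  letI : MulAction (M ≃ₐ[E] M) A :=
    { smul := fun τ a => G.obj.map (SepLimit.map τ.toAlgHom).op a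
      one_smul := fun a => by
        have : SepLimit.map (1 : M ≃ₐ[E] M).toAlgHom = 𝟙 (SepLimit.obj (K := E) M) :=
          MorphismProperty.Over.Hom.ext (Spec.map_id _)
        show G.obj.map _ a = a
        rw [this, op_id, G.obj.map_id]
        rfl
      mul_smul := fun τ ρ a => by
        have : SepLimit.map (τ * ρ).toAlgHom =
            SepLimit.map (K := E) τ.toAlgHom ≫ SepLimit.map ρ.toAlgHom := by
          apply MorphismProperty.Over.Hom.ext
          exact Spec.map_comp (CommRingCat.ofHom ρ.toAlgHom.toRingHom) (CommRingCat.ofHom τ.toAlgHom.toRingHom)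
        show G.obj.map _ a = G.obj.map _ (G.obj.map _ a)
        rw [this, op_comp, G.obj.map_comp]
        rfl }
  have h0 : (0 : A) ∈ MulAction.fixedPoints (M ≃ₐ[E] M) A := fun τ => map_zero _
  obtain ⟨t₀, ht₀⟩ := exists_ne (0 : (EtCoh.stalk (SepLimit.σ E)).obj G)
  obtain ⟨a₀, rfl⟩ := h t₀
  obtain ⟨k, hk⟩ := (Supp.isPrimaryTorsion_iff_stalks ℓ G).1 hG _ (SepLimit.σ E) (germ a₀)
  have hk' : ℓ ^ k • a₀ = 0 := hinj ((map_nsmul germ.hom _ _).trans (hk.trans (map_zero germ.hom).symm))
  have hdvd : ℓ ∣ Nat.card A := by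
    obtain ⟨i, -, hi⟩ := (Nat.dvd_prime_pow hℓ.out).1 (addOrderOf_dvd_of_nsmul_eq_zero hk')
    have hi0 : i ≠ 0 := fun h0 => ht₀ (by
      rw [h0, pow_zero, AddMonoid.addOrderOf_eq_one_iff] at hi
      rw [hi]
      exact map_zero _)
    exact (dvd_pow_self ℓ hi0).trans (hi ▸ addOrderOf_dvd_natCard a₀)
  obtain ⟨a, ha, hne⟩ := hM.exists_fixed_point_of_prime_dvd_card_of_fixed_point A hdvd h0
  have hfix : ∀ (γ : SeparableClosure E ≃ₐ[E] SeparableClosure E), act γ G (germ a) = germ a := by
    intro γ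
    obtain ⟨τ, hτ⟩ : ∃ τ : M ≃ₐ[E] M, γ.toAlgHom.comp j = j.comp τ.toAlgHom := by
      let j' : M ≃ₐ[E] j.fieldRange := AlgEquiv.ofInjectiveField j
      haveI : Normal E j.fieldRange := Normal.of_algEquiv j'
      refine ⟨(j'.trans (γ.restrictNormal j.fieldRange)).trans j'.symm, AlgHom.ext fun x => ?_⟩
      have h1 := AlgEquiv.restrictNormal_commutes γ j.fieldRange (j' x)
      have h2 : j (j'.symm (γ.restrictNormal j.fieldRange (j' x))) = _ :=
        congrArg Subtype.val (j'.apply_symm_apply (γ.restrictNormal j.fieldRange (j' x)))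
      exact (h2.trans h1).symm
    refine (act_germ γ G _ _).trans ?_
    have : moveFib γ (SepLimit.pt j) = (Pσ).fiber.map (SepLimit.map τ.toAlgHom) (SepLimit.pt j) := by
      rw [SepLimit.map_pt, ← hτ]
      apply CategoryTheory.Over.OverMorphism.ext
      exact (Spec.map_comp (CommRingCat.ofHom j.toRingHom) (CommRingCat.ofHom γ.toAlgHom.toRingHom)).symm
    rw [this, ← (Pσ).toPresheafFiber_w_apply]
    exact congrArg germ (ha τ)
  obtain ⟨E', _, _, _, _, j', hj', b, hb⟩ := SepLimit.exists_descent G ⊥ (germ a) (fun γ _ W z z' w hw hz' => by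
    have : z' = moveFib γ z := CategoryTheory.Over.OverMorphism.ext hz'
    rw [this, ← act_germ, hw, hfix])
  let ψ : E' →ₐ[E] E :=
    (IntermediateField.botEquiv E (SeparableClosure E)).toAlgHom.comp (j'.codRestrict (⊥ : IntermediateField E (SeparableClosure E)).toSubalgebra hj')
  have hψ : (Algebra.ofId E (SeparableClosure E)).comp ψ = j' := AlgHom.ext fun x =>
    congrArg Subtype.val ((IntermediateField.botEquiv E (SeparableClosure E)).symm_apply_apply
      (⟨j' x, hj' x⟩ : (⊥ : IntermediateField E (SeparableClosure E))))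
  let s : EtCoh.top (Spec (CommRingCat.of E)) ⟶ SepLimit.obj (K := E) E' :=
    MorphismProperty.Over.homMk (Spec.map (CommRingCat.ofHom ψ.toRingHom)) (by
      change Spec.map _ ≫ Spec.map _ = 𝟙 _
      rw [← Spec.map_comp, show CommRingCat.ofHom (algebraMap E E') ≫ CommRingCat.ofHom ψ.toRingHom =
        𝟙 (CommRingCat.of E) from CommRingCat.hom_ext ψ.comp_algebraMap, Spec.map_id])
  let p : (Pσ).fiber.obj (EtCoh.top (Spec (CommRingCat.of E))) :=
    CategoryTheory.Over.homMk (SepLimit.σ E) (Category.comp_id _)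
  have hp : (Pσ).fiber.map s p = SepLimit.pt j' := by
    apply CategoryTheory.Over.OverMorphism.ext
    change Spec.map _ ≫ Spec.map _ = Spec.map (CommRingCat.ofHom j'.toRingHom)
    rw [← Spec.map_comp, ← hψ]
    rfl
  let g₁ := G.obj.map s.op b
  have hg₁ : (Pσ).toPresheafFiber _ p G.obj g₁ = germ a :=
    ((Pσ).toPresheafFiber_w_apply s p G.obj b).trans ((congrArg (fun z => (Pσ).toPresheafFiber _ z G.obj b) hp).trans hb)
  have ht : germ a ≠ 0 := fun h0 => hne (hinj (h0.trans (map_zero germ.hom).symm)).symm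
  obtain ⟨k', hk'⟩ := (Supp.isPrimaryTorsion_iff_stalks ℓ G).1 hG _ (SepLimit.σ E) (germ a)
  obtain ⟨i, -, hi⟩ := (Nat.dvd_prime_pow hℓ.out).1 (addOrderOf_dvd_of_nsmul_eq_zero hk')
  obtain ⟨i, rfl⟩ : ∃ i', i = i' + 1 := Nat.exists_eq_add_one_of_ne_zero fun h0 => ht (by
    rw [h0, pow_zero] at hi
    exact AddMonoid.addOrderOf_eq_one_iff.1 hi)
  refine ⟨ℓ ^ i • g₁, p, ?_, ?_⟩
  · have hi' : addOrderOf (germ a) = ℓ ^ (i + 1) := hi
    rw [map_nsmul, hg₁, addOrderOf_nsmul' _ (pow_ne_zero i hℓ.out.ne_zero), hi',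
      Nat.gcd_eq_right ⟨ℓ, pow_succ ℓ i⟩, pow_succ, Nat.mul_div_cancel_left _ (pow_pos hℓ.out.pos i)]
  · haveI : Subsingleton (EtCoh.top (Spec (CommRingCat.of E))).left :=
      inferInstanceAs (Subsingleton ↥(Spec (CommRingCat.of E)))
    refine SepLimit.germ_injective G _ p ?_
    rw [map_zero, map_nsmul, map_nsmul, hg₁, smul_smul, ← pow_succ', ← hi]
    exact addOrderOf_nsmul_eq_zero _

/-- The morphism out of the constant sheaf given by a section killed by `ℓ`. -/
noncomputable def constMap (g : G.obj.obj (op (EtCoh.top (Spec (CommRingCat.of E))))) (hg : ℓ • g = 0) :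
    EtCoh.const (Spec (CommRingCat.of E)) (ZMod ℓ) ⟶ G :=
  ⟨sheafifyLift _
    { app := fun U => AddCommGrpCat.ofHom
        (((G.obj.map ((EtCore.topIsTerminal _).from U.unop).op).hom.comp
          (ZMod.lift ℓ ⟨zmultiplesHom _ g, by
            show ((ℓ : ℕ) : ℤ) • g = 0
            rw [natCast_zsmul]; exact hg⟩)).comp AddEquiv.ulift.toAddMonoidHom)
      naturality := fun U V f => by
        refine AddCommGrpCat.ext fun m => ?_
        show G.obj.map ((EtCore.topIsTerminal _).from V.unop).op _ =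
          G.obj.map f (G.obj.map ((EtCore.topIsTerminal _).from U.unop).op _)
        rw [(EtCore.topIsTerminal _).hom_ext ((EtCore.topIsTerminal _).from V.unop)
          (f.unop ≫ (EtCore.topIsTerminal _).from U.unop), op_comp, Quiver.Hom.op_unop, G.obj.map_comp]
        rfl } G.property⟩

theorem mono_constMap (g : G.obj.obj (op (EtCoh.top (Spec (CommRingCat.of E))))) (hg : ℓ • g = 0)
    (p : (Pσ).fiber.obj (EtCoh.top (Spec (CommRingCat.of E))))
    (ho : addOrderOf ((Pσ).toPresheafFiber _ p G.obj g) = ℓ) :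
    Mono (constMap g hg) ∧ ∃ z, (EtCoh.stalk (SepLimit.σ E)).map (constMap g hg) z ≠ 0 := by
  let X := Spec (CommRingCat.of E)
  let C : X.Etaleᵒᵖ ⥤ AddCommGrpCat.{u + 1} :=
    (Functor.const X.Etaleᵒᵖ).obj (AddCommGrpCat.of (ULift.{u + 1} (ZMod ℓ)))
  let c : ULift.{u + 1} (ZMod ℓ) → (EtCoh.stalk (SepLimit.σ E)).obj (EtCoh.const X (ZMod ℓ)) := fun m =>
    (Pσ).toPresheafFiber (EtCoh.top X) p (sheafify X.smallEtaleTopology C)
      ((toSheafify X.smallEtaleTopology C).app (op (EtCoh.top X)) m)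
  have hc : Function.Bijective c :=
    EtFound.toSheafify_const_germ_bijective (SepLimit.σ E) AddCommGrpCat.{u + 1} (AddCommGrpCat.of (ULift.{u + 1} (ZMod ℓ))) (EtCoh.top X) p
  have hval : ∀ m : ULift.{u + 1} (ZMod ℓ), (EtCoh.stalk (SepLimit.σ E)).map (constMap g hg) (c m) =
      m.down.val • (Pσ).toPresheafFiber _ p G.obj g := fun m => by
    refine ((Pσ).toPresheafFiber_naturality_apply (constMap g hg).hom (EtCoh.top X) p _).trans ?_
    rw [← map_nsmul]
    refine congrArg _ ?_
    refine (ConcreteCategory.congr_hom (congr_app (toSheafify_sheafifyLift (P := C) X.smallEtaleTopology _ G.property)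
      (op (EtCoh.top X))) (m : C.obj (op (EtCoh.top X)))).trans ?_
    show G.obj.map ((EtCore.topIsTerminal X).from (EtCoh.top X)).op (ZMod.lift ℓ _ m.down) = _
    rw [(EtCore.topIsTerminal X).hom_ext ((EtCore.topIsTerminal X).from _) (𝟙 _), op_id, G.obj.map_id]
    haveI : NeZero ℓ := ⟨hℓ.out.ne_zero⟩
    refine (ConcreteCategory.id_apply _).trans ?_
    conv_lhs => rw [← ZMod.natCast_zmod_val m.down]
    rw [show ((m.down.val : ℕ) : ZMod ℓ) = ((m.down.val : ℤ) : ZMod ℓ) from (Int.cast_natCast _).symm, ZMod.lift_coe]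
    exact natCast_zsmul g _
  haveI : NeZero ℓ := ⟨hℓ.out.ne_zero⟩
  refine ⟨mono_of_σ _ ((injective_iff_map_eq_zero _).2 fun z hz => ?_), c ⟨1⟩, ?_⟩
  · obtain ⟨m, rfl⟩ := hc.2 z
    rw [hval] at hz
    have hdvd := addOrderOf_dvd_of_nsmul_eq_zero hz
    replace hdvd : ℓ ∣ m.down.val := ho ▸ hdvd
    have hm : m.down.val = 0 := Nat.eq_zero_of_dvd_of_lt hdvd (ZMod.val_lt m.down)
    have hm' : m = 0 := ULift.ext _ _ ((ZMod.val_eq_zero m.down).1 hm)
    rw [hm']
    show c 0 = 0
    simp only [c, map_zero]; rfl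
  · rw [hval]
    haveI : Fact (1 < ℓ) := ⟨hℓ.out.one_lt⟩
    show (1 : ZMod ℓ).val • _ ≠ 0
    rw [ZMod.val_one]
    intro h0
    rw [show (Pσ).toPresheafFiber _ p G.obj g = 0 from (one_nsmul _).symm.trans h0, addOrderOf_zero] at ho
    exact hℓ.out.one_lt.ne ho

/-- Vanishing for sheaves split by an `ℓ`-extension from that of the constant sheaf. -/
theorem subsingleton_H_of_split (q : ℕ)
    (hq : Subsingleton (EtCoh.H (Spec (CommRingCat.of E)) (EtCoh.const (Spec (CommRingCat.of E)) (ZMod ℓ)) q))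
    (hM : IsPGroup ℓ (M ≃ₐ[E] M)) :
    ∀ (n : ℕ) (G : EtCoh.Ab (Spec (CommRingCat.of E))), Dix.IsPrimaryTorsion ℓ G →
      Finite ((EtCoh.stalk (SepLimit.σ E)).obj G) → Nat.card ((EtCoh.stalk (SepLimit.σ E)).obj G) = n →
      Split G M j → Subsingleton (EtCoh.H (Spec (CommRingCat.of E)) G q) := by
  intro n
  induction n using Nat.strong_induction_on with
  | _ n ih =>
    intro G hG hfin hn hs
    rcases subsingleton_or_nontrivial ((EtCoh.stalk (SepLimit.σ E)).obj G) with h | h
    · exact Devissage.subsingleton_H_of_isZero G (isZero_of_σ G h) q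
    · obtain ⟨g, p, ho, hg⟩ := hs.exists_section hM hG
      obtain ⟨hmono, z, hz⟩ := mono_constMap g hg p ho
      let T := ShortComplex.mk (constMap g hg) (cokernel.π (constMap g hg)) (cokernel.condition _)
      have hT : T.ShortExact := ShortComplex.ShortExact.mk'
        (ShortComplex.exact_of_g_is_cokernel _ (cokernelIsCokernel _)) hmono (inferInstanceAs (Epi (cokernel.π _)))
      have hsurj : Function.Surjective ((EtCoh.stalk (SepLimit.σ E)).map (cokernel.π (constMap g hg))) :=
        (AddCommGrpCat.epi_iff_surjective _).1 inferInstance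
      have hfin' : Finite ((EtCoh.stalk (SepLimit.σ E)).obj (cokernel (constMap g hg))) := Finite.of_surjective _ hsurj
      refine ExtVanish.ext₂ hT _ q hq (ih _ ?_ _ (Supp.isPrimaryTorsion_of_epi ℓ (cokernel.π _) hG) hfin' rfl
        (hs.of_epi G M j (cokernel.π _)))
      rw [← hn]
      haveI := Fintype.ofFinite ((EtCoh.stalk (SepLimit.σ E)).obj G)
      haveI := Fintype.ofFinite ((EtCoh.stalk (SepLimit.σ E)).obj (cokernel (constMap g hg)))
      rw [Nat.card_eq_fintype_card, Nat.card_eq_fintype_card]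
      refine Fintype.card_lt_of_surjective_not_injective _ hsurj fun hinj => hz (hinj ?_)
      rw [← ConcreteCategory.comp_apply, ← Functor.map_comp, cokernel.condition, Functor.map_zero, map_zero]
      rfl

end Groth.Agent.CdField
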