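import Groth.Agent.CdField.C1Fields
import Groth.Agent.CdLib.StalkVanish
import Groth.Agent.CdLib.Branch

/-! Raising the cohomological dimension by the transcendence degree. -/

set_option autoImplicit false
set_option backward.isDefEq.respectTransparency.types false

universe u

open CategoryTheory CategoryTheory.Limits AlgebraicGeometry Opposite

namespace Groth.Agent.CdField

open Groth.Agent.CdLib

variable (k K : Type u) [Field k] [Field K] [Algebra k K]

local notation "ik" => Spec.map (CommRingCat.ofHom (algebraMap k K))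

/-- The field of a branch contains the separable closure of the ground field. -/
theorem mem_L_of_isSeparable (φ : Branch.Br ik (SepLimit.σ k)) (x : SeparableClosure K)
    (hx : IsSeparable k x) : x ∈ Branch.L φ := by
  let Ks := SeparableClosure K
  let f := minpoly k x
  have hint : IsIntegral k x := hx.isIntegral
  obtain ⟨y₀, hy₀⟩ := IsSepClosed.exists_aeval_eq_zero (SeparableClosure k) f
    (minpoly.degree_pos hint).ne' hx
  let N := FiniteGaloisIntermediateField.adjoin k ({y₀} : Set (SeparableClosure k))
  haveI : Normal k N := IsGalois.to_normal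
  let y₁ : N := ⟨y₀, FiniteGaloisIntermediateField.subset_adjoin k _ (Set.mem_singleton _)⟩
  have hf : minpoly k y₁ = f := by
    refine (minpoly.eq_of_irreducible_of_monic (minpoly.irreducible hint) ?_ (minpoly.monic hint)).symm
    refine Subtype.val_injective ?_
    show N.toIntermediateField.val (Polynomial.aeval y₁ f) = 0
    rw [← Polynomial.aeval_algHom_apply]
    exact hy₀
  have hsplit : (f.map (algebraMap k N)).Splits := hf ▸ Normal.splits inferInstance y₁
  let v := φ.hom.app (SepLimit.obj (K := k) N) (SepLimit.pt N.toIntermediateField.val)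
  obtain ⟨ψ, hψ⟩ := Spec.map_surjective (R := CommRingCat.of N) (S := CommRingCat.of Ks)
    (v.left : Spec (CommRingCat.of Ks) ⟶ Spec (CommRingCat.of N))
  have hcomp : CommRingCat.ofHom (algebraMap k N) ≫ ψ = CommRingCat.ofHom (algebraMap k Ks) := by
    apply Spec.map_injective
    rw [Spec.map_comp, hψ]
    refine (CategoryTheory.Over.w v).trans ?_
    show Spec.map _ ≫ Spec.map _ = _
    rw [← Spec.map_comp]
    exact congrArg Spec.map (CommRingCat.hom_ext (IsScalarTower.algebraMap_eq k K Ks).symm)
  let e : N →ₐ[k] Ks := { ψ.hom with commutes' := fun r => congr(($hcomp).hom r) }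
  obtain ⟨y, -, rfl⟩ : x ∈ e '' f.rootSet N := by
    rw [Polynomial.Splits.image_rootSet hsplit e]
    exact (Polynomial.mem_rootSet).2 ⟨minpoly.ne_zero hint, minpoly.aeval k x⟩
  refine IntermediateField.subset_adjoin K _ ⟨_, ConcreteCategory.congr_hom
    (Branch.β_germ φ (SepLimit.obj (K := k) N) (SepLimit.pt N.toIntermediateField.val))
    ((Scheme.ΓSpecIso (CommRingCat.of N)).inv y) |>.trans ?_⟩
  show (Scheme.ΓSpecIso (CommRingCat.of Ks)).hom
    ((v.left : Spec (CommRingCat.of Ks) ⟶ Spec (CommRingCat.of N)).appTop _) = ψ.hom y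
  rw [← hψ]
  refine (ConcreteCategory.congr_hom (Scheme.ΓSpecIso_naturality ψ) _).trans ?_
  exact congrArg ψ.hom ((Scheme.ΓSpecIso (CommRingCat.of N)).commRingCatIsoToRingEquiv.apply_symm_apply y)

/-- A subfield of an algebraic extension of `K` containing a separably closed field. -/
theorem cohDimLEAt_of_contains (Ω : Type u) [Field Ω] [Algebra k Ω] [Algebra K Ω] [IsScalarTower k K Ω]
    [Algebra.IsAlgebraic K Ω] (F : IntermediateField k Ω) [IsSepClosed F] [Algebra.IsAlgebraic k F]
    (L : IntermediateField K Ω) (hFL : ∀ x, x ∈ F → x ∈ L)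
    (ht : Algebra.trdeg k K = 1) (ℓ : ℕ) [Fact ℓ.Prime] :
    Dix.CohDimLEAt (Spec (CommRingCat.of L)) ℓ 1 := by
  letI algFL : Algebra F L := (show F →+* L from
    { toFun := fun x => ⟨x.1, hFL x.1 x.2⟩, map_one' := rfl,
      map_mul' := fun _ _ => rfl, map_zero' := rfl, map_add' := fun _ _ => rfl }).toAlgebra
  haveI : IsScalarTower k F L := IsScalarTower.of_algebraMap_eq (R := k) (S := F) (A := L) fun r =>
    Subtype.ext (by exact rfl)
  haveI : Algebra.IsAlgebraic K L := inferInstance
  have h1 : Algebra.trdeg k L = 1 := by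
    rw [← ht, ← trdeg_add_eq k K (A := L), trdeg_eq_zero (R := K) (A := L), add_zero]
  have h2 : Algebra.trdeg F L = 1 := by
    rw [← h1, ← trdeg_add_eq k F (A := L), trdeg_eq_zero (R := k) (A := F), zero_add]
  exact cohDimLEAt_one_of_isSepClosed F L h2 ℓ

/-- The fields of the branches over the separable closure have `cd ≤ 1`. -/
theorem cohDimLEAt_branch (ht : Algebra.trdeg k K = 1) (φ : Branch.Br ik (SepLimit.σ k))
    (ℓ : ℕ) [Fact ℓ.Prime] : Dix.CohDimLEAt (Spec (CommRingCat.of (Branch.L φ))) ℓ 1 := by
  haveI : IsSepClosed (separableClosure k (SeparableClosure K)) := IsSepClosure.sep_closed k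
  haveI : Algebra.IsAlgebraic k (separableClosure k (SeparableClosure K)) := inferInstance
  exact cohDimLEAt_of_contains k K (SeparableClosure K) (separableClosure k (SeparableClosure K)) (Branch.L φ)
    (fun x hx => mem_L_of_isSeparable k K φ x (mem_separableClosure_iff.1 hx)) ht ℓ

/-- One variable raises the cohomological dimension by at most one. -/
theorem cohDimLEAt_succ (ht : Algebra.trdeg k K = 1) (ℓ : ℕ) [hℓ : Fact ℓ.Prime] (d : ℕ)
    (h : Dix.CohDimLEAt (Spec (CommRingCat.of k)) ℓ d) : Dix.CohDimLEAt (Spec (CommRingCat.of K)) ℓ (d + 1) := by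
  intro F hF q hq
  haveI : QuasiCompact ik := quasiCompact_of_compactSpace _
  haveI := EtFound.pull_preservesFiniteLimits ik
  obtain ⟨m, rfl⟩ : ∃ m, q = m + 1 := ⟨q - 1, by omega⟩
  refine subsingleton_H_of_push ik F m (h _ (TorsionClass.isPrimaryTorsion_push ℓ ik hF) _ (by omega))
    fun a b hab => ?_
  cases b with
  | zero => exact h _ (TorsionClass.isPrimaryTorsion_Rpush ℓ ik 0 F hF) a (by omega)
  | succ b =>
    refine Devissage.subsingleton_H_of_isZero _ (isZero_of_σ _ ?_) a
    refine StalkVanish.subsingleton_stalk_Rpush (b + 1) F fun φ => ?_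
    exact cohDimLEAt_branch k K ht φ ℓ _ (Supp.isPrimaryTorsion_pull ℓ _ hF) _ (by omega)

end Groth.Agent.CdField
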